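import Cfsg.Agent.S0201
import Cfsg.Agent.S3331
import Cfsg.Agent.S3277
import Cfsg.Agent.Lib.MaximalClass
import Cfsg.Agent.Lib.QuatHom
import Cfsg.Agent.Lib.Fusion.RankTwoSimple
import Cfsg.Agent.Lib.Blocks.Dihedral.Count

/-!
# Simple groups with a centraliser of order at most four: the Sylow two-subgroup
-/

set_option autoImplicit false
set_option linter.unusedSectionVars false
set_option linter.style.haveILetI false

namespace CfsgLib.SmallCent

open Cfsg

universe u

variable {G : Type u} [Group G] [Finite G] [IsSimpleGroup G]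

theorem comm_absurd (hG : ¬ IsCyclic G) (h : ∀ a b : G, a * b = b * a) : False :=
  letI : CommGroup G := { (inferInstance : Group G) with mul_comm := h }
  hG inferInstance

theorem center_eq_bot (hG : ¬ IsCyclic G) : Subgroup.center G = ⊥ :=
  (Subgroup.Normal.eq_bot_or_eq_top (inferInstance : (Subgroup.center G).Normal)).resolve_right
    fun h => comm_absurd hG fun a b => (Subgroup.mem_center_iff.1 (h ▸ Subgroup.mem_top b) a)

theorem not_isPGroup (hG : ¬ IsCyclic G) {p : ℕ} [Fact p.Prime] : ¬ IsPGroup p G := by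
  intro h
  haveI : Nontrivial G := IsSimpleGroup.toNontrivial
  exact (Subgroup.nontrivial_iff_ne_bot _).1 h.center_nontrivial (center_eq_bot hG)

theorem no_complement (hG : ¬ IsCyclic G) (h2 : 2 ∣ Nat.card G) : ¬ HasNormalPComplement 2 G := by
  haveI : Fact (Nat.Prime 2) := ⟨Nat.prime_two⟩
  rintro ⟨P, K, hK, hc⟩
  rcases Subgroup.Normal.eq_bot_or_eq_top hK with rfl | rfl
  · have : Nat.card G = Nat.card P := by
      rw [← hc.symm.index_eq_card, Subgroup.index_bot]
    exact not_isPGroup hG fun g => by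
      have hP : (P : Subgroup G) = ⊤ := Subgroup.eq_top_of_card_eq _ this.symm
      obtain ⟨k, hk⟩ := P.2 ⟨g, hP ▸ Subgroup.mem_top g⟩
      exact ⟨k, congrArg Subtype.val hk⟩
  · have h1 : Nat.card P = 1 := by rw [← hc.symm.index_eq_card, Subgroup.index_top]
    exact P.not_dvd_index (by
      rw [show (P : Subgroup G) = ⊥ from Subgroup.eq_bot_of_card_eq _ h1, Subgroup.index_bot]
      exact h2)

theorem not_cyclic_sylow (hG : ¬ IsCyclic G) (h2 : 2 ∣ Nat.card G) (P : Sylow 2 G) :
    ¬ IsCyclic (P : Subgroup G) := by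
  haveI : Fact (Nat.Prime 2) := ⟨Nat.prime_two⟩
  exact fun h => no_complement hG h2
    (HSub.hasNormalPComplement_of_cyclic (fun q hq _ => hq.two_le) P h)

theorem card_two_absurd (hG : ¬ IsCyclic G) {w : G} (hw : orderOf w = 2)
    (hC : Nat.card (Subgroup.centralizer ({w} : Set G)) = 2) : False := by
  haveI : Fact (Nat.Prime 2) := ⟨Nat.prime_two⟩
  have h2 : 2 ∣ Nat.card G := hw ▸ orderOf_dvd_natCard w
  obtain ⟨P, hP⟩ := (IsPGroup.of_card (n := 1) (by rw [Nat.card_zpowers, hw, pow_one]) :
    IsPGroup 2 (Subgroup.zpowers w)).exists_le_sylow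
  have hwP : w ∈ (P : Subgroup G) := hP (Subgroup.mem_zpowers w)
  have hCw : Subgroup.centralizer ({w} : Set G) = Subgroup.zpowers w :=
    (Subgroup.eq_of_le_of_card_ge (Subgroup.zpowers_le.2
      (Subgroup.mem_centralizer_singleton_iff.2 rfl)) (by rw [hC, Nat.card_zpowers, hw])).symm
  haveI : Nontrivial (P : Subgroup G) := ⟨⟨w, hwP⟩, 1, fun e => by
    have : w = 1 := congrArg Subtype.val e
    rw [this, orderOf_one] at hw
    omega⟩
  obtain ⟨⟨⟨c, hcc⟩, hc1⟩⟩ : Nonempty {c : Subgroup.center (P : Subgroup G) // c ≠ 1} := by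
    haveI := P.2.center_nontrivial
    obtain ⟨c, hc⟩ := exists_ne (1 : Subgroup.center (P : Subgroup G))
    exact ⟨⟨c, hc⟩⟩
  have hcw : (c : G) ∈ Subgroup.zpowers w := hCw ▸ Subgroup.mem_centralizer_singleton_iff.2
    (congrArg Subtype.val (Subgroup.mem_center_iff.1 hcc ⟨w, hwP⟩)).symm
  have hceq : (c : G) = w := by
    obtain ⟨i, hi : w ^ i = (c : G)⟩ := hcw
    rw [← zpow_mod_orderOf, hw] at hi
    rcases Int.emod_two_eq_zero_or_one i with e | e <;> norm_num [e] at hi
    · exact absurd (Subtype.ext (Subtype.ext hi.symm)) hc1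
    · exact hi.symm
  have hle : (P : Subgroup G) ≤ Subgroup.zpowers w := fun x hx => hCw ▸
    Subgroup.mem_centralizer_singleton_iff.2 (by
      rw [← hceq]; exact congrArg Subtype.val (Subgroup.mem_center_iff.1 hcc ⟨x, hx⟩))
  exact not_cyclic_sylow hG h2 P (isCyclic_of_injective (Subgroup.inclusion hle)
    (Subgroup.inclusion_injective hle))

/-- The reduction to an element of order four. -/
theorem reduce (hG : ¬ IsCyclic G) (w : G)
    (hw : Nat.card ↥(Subgroup.centralizer ({w} : Set G)) ≤ 4) :
    (Nonempty (G ≃* ↥(alternatingGroup (Fin 5))) ∨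
      (∃ (F : Type) (_ : Field F) (_ : Fintype F), Fintype.card F = 7 ∧
        Nonempty (G ≃* Matrix.ProjectiveSpecialLinearGroup (Fin 2) F))) ∨
      ∃ v : G, orderOf v = 4 ∧ Nat.card ↥(Subgroup.centralizer ({v} : Set G)) = 4 := by
  haveI : Fact (Nat.Prime 2) := ⟨Nat.prime_two⟩
  haveI : Nontrivial G := IsSimpleGroup.toNontrivial
  have hwC : w ∈ Subgroup.centralizer ({w} : Set G) := Subgroup.mem_centralizer_singleton_iff.2 rfl
  have hdvd : orderOf w ∣ Nat.card ↥(Subgroup.centralizer ({w} : Set G)) :=
    Subgroup.orderOf_dvd_natCard _ hwC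
  have hpos : 0 < Nat.card ↥(Subgroup.centralizer ({w} : Set G)) := Nat.card_pos
  by_cases hw1 : w = 1
  · exfalso
    have htop : Subgroup.centralizer ({w} : Set G) = ⊤ := eq_top_iff.2 fun g _ =>
      Subgroup.mem_centralizer_singleton_iff.2 (by rw [hw1, one_mul, mul_one])
    rw [htop, Subgroup.card_top] at hw
    have h1 : 1 < Nat.card G := Finite.one_lt_card
    have h4 : Nat.card G = 2 ∨ Nat.card G = 3 ∨ Nat.card G = 4 := by omega
    rcases h4 with h | h | h
    · haveI := Fact.mk Nat.prime_two; exact hG (isCyclic_of_prime_card h)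
    · haveI := Fact.mk Nat.prime_three; exact hG (isCyclic_of_prime_card h)
    · exact not_isPGroup hG (IsPGroup.of_card (p := 2) (n := 2) (by rw [h]; norm_num))
  have ho1 : orderOf w ≠ 1 := fun e => hw1 (orderOf_eq_one_iff.1 e)
  obtain hc | hc | hc : Nat.card ↥(Subgroup.centralizer ({w} : Set G)) = 2 ∨
      Nat.card ↥(Subgroup.centralizer ({w} : Set G)) = 3 ∨
      Nat.card ↥(Subgroup.centralizer ({w} : Set G)) = 4 := by
    rcases Nat.lt_or_ge (Nat.card ↥(Subgroup.centralizer ({w} : Set G))) 2 with h | h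
    · rw [show Nat.card ↥(Subgroup.centralizer ({w} : Set G)) = 1 by omega, Nat.dvd_one] at hdvd
      exact absurd hdvd ho1
    · omega
  · rw [hc] at hdvd
    exact (card_two_absurd hG (((Nat.dvd_prime Nat.prime_two).1 hdvd).resolve_left ho1) hc).elim
  · rw [hc] at hdvd
    have ho : orderOf w = 3 := ((Nat.dvd_prime Nat.prime_three).1 hdvd).resolve_left ho1
    have hX : Nat.card (Subgroup.zpowers w) = 3 := by rw [Nat.card_zpowers, ho]
    have hCX : Subgroup.centralizer (Subgroup.zpowers w : Set G) = Subgroup.zpowers w := by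
      have e : Subgroup.centralizer ({w} : Set G) = Subgroup.zpowers w :=
        (Subgroup.eq_of_le_of_card_ge (Subgroup.zpowers_le.2 hwC) (by rw [hc, hX])).symm
      refine le_antisymm (fun g hg => e ▸ Subgroup.mem_centralizer_singleton_iff.2
        ((Subgroup.mem_centralizer_iff.1 hg) w (Subgroup.mem_zpowers w)).symm) fun g hg => ?_
      refine Subgroup.mem_centralizer_iff.2 ?_
      rintro x ⟨i, rfl⟩
      obtain ⟨j, rfl⟩ := hg
      exact (Commute.zpow_zpow_self w i j).eq
    rcases Cfsg.Agent.S3331.result (Subgroup.zpowers w) hX hCX with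
      ⟨N, hN, -, -, hq⟩ | ⟨N, hN, -, -, ⟨e⟩⟩ | h
    · exfalso
      have hcard : Nat.card (G ⧸ N) = 3 ∨ Nat.card (G ⧸ N) = 6 := by
        rcases hq with h | ⟨⟨e⟩⟩
        · exact Or.inl h
        · right; rw [Nat.card_congr e.toEquiv, Nat.card_perm, Nat.card_fin]; rfl
      rw [← Subgroup.index_eq_card] at hcard
      rcases Subgroup.Normal.eq_bot_or_eq_top hN with rfl | rfl
      · rw [Subgroup.index_bot] at hcard
        rcases hcard with h | h
        · haveI := Fact.mk Nat.prime_three; exact hG (isCyclic_of_prime_card h)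
        · have h3 : (Subgroup.zpowers w).index = 2 := by
            have := (Subgroup.zpowers w).card_mul_index
            rw [hX, h] at this; omega
          rcases Subgroup.Normal.eq_bot_or_eq_top (Subgroup.normal_of_index_eq_two h3) with e' | e'
          · rw [e', Subgroup.card_bot] at hX; omega
          · rw [e', Subgroup.index_top] at h3; omega
      · rw [Subgroup.index_top] at hcard; omega
    · left; left
      rcases Subgroup.Normal.eq_bot_or_eq_top hN with rfl | rfl
      · exact ⟨(QuotientGroup.quotientBot.symm).trans e⟩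
      · exfalso
        have := Nat.card_congr e.toEquiv
        rw [← Subgroup.index_eq_card, Subgroup.index_top, nat_card_alternatingGroup, Nat.card_fin] at this
        norm_num [Nat.factorial] at this
    · haveI : Fact (Nat.Prime 7) := ⟨by norm_num⟩
      exact Or.inl (Or.inr ⟨ZMod 7, inferInstance, inferInstance, ZMod.card 7, h⟩)
  · rw [hc] at hdvd
    obtain ho | ho : orderOf w = 2 ∨ orderOf w = 4 := by
      have := Nat.le_of_dvd (by norm_num) hdvd
      interval_cases orderOf w <;> simp_all
    · by_cases he : ∀ c ∈ Subgroup.centralizer ({w} : Set G), c ^ 2 = 1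
      · refine Or.inl (Or.inl (Cfsg.Agent.S3277.result w ho hc he
          (no_complement hG (ho ▸ orderOf_dvd_natCard w)) fun E hE _ => ?_))
        rcases Subgroup.Normal.eq_bot_or_eq_top hE with rfl | rfl
        · simp [Subgroup.card_bot]
        · rw [Subgroup.card_top]
          refine ⟨fun h => ?_, fun h => ?_⟩
          · exact hG (isCyclic_of_prime_card h)
          · exact not_isPGroup hG (IsPGroup.of_card (p := 2) (n := 2) (by rw [h]; norm_num))
      · push Not at he
        obtain ⟨c, hcC, hc2⟩ := he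
        refine Or.inr ⟨c, ?_, ?_⟩
        · have hd : orderOf c ∣ 2 ^ 2 := by
            have := Subgroup.orderOf_dvd_natCard _ hcC
            rw [hc] at this; exact this
          exact orderOf_eq_prime_pow (p := 2) (n := 1) (by rwa [pow_one])
            (orderOf_dvd_iff_pow_eq_one.1 hd)
        · have hco : orderOf c = 4 := by
            have hd : orderOf c ∣ 2 ^ 2 := by
              have := Subgroup.orderOf_dvd_natCard _ hcC
              rw [hc] at this; exact this
            exact orderOf_eq_prime_pow (p := 2) (n := 1) (by rwa [pow_one])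
              (orderOf_dvd_iff_pow_eq_one.1 hd)
          have hzC : Subgroup.zpowers c = Subgroup.centralizer ({w} : Set G) :=
            Subgroup.eq_of_le_of_card_ge (Subgroup.zpowers_le.2 hcC) (by rw [hc, Nat.card_zpowers, hco])
          have hwc : w = c ^ 2 := by
            obtain ⟨i, hi : c ^ i = w⟩ := hzC.ge hwC
            rw [← hi, ← zpow_mod_orderOf, hco] at ho ⊢
            have h0 := Int.emod_nonneg i (show (4 : ℤ) ≠ 0 by norm_num)
            have h4 := Int.emod_lt_of_pos i (show (0 : ℤ) < 4 by norm_num)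
            push_cast at ho ⊢
            generalize i % 4 = r at h0 h4 ho ⊢
            interval_cases r
            · simp at ho
            · rw [zpow_one, hco] at ho; omega
            · first | exact zpow_ofNat c 2 | exact zpow_natCast c 2
            · exfalso
              rw [show c ^ (3 : ℤ) = c⁻¹ by
                rw [eq_comm, inv_eq_iff_mul_eq_one, ← zpow_one_add, show (1 + 3 : ℤ) = ((4 : ℕ) : ℤ) by norm_num,
                  zpow_natCast, ← hco, pow_orderOf_eq_one], orderOf_inv, hco] at ho
              omega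
          refine le_antisymm ?_ ?_
          · rw [← hc]
            refine Subgroup.card_le_of_le fun g hg => ?_
            exact Subgroup.mem_centralizer_singleton_iff.2 (by
              rw [hwc]; exact ((show Commute g c from Subgroup.mem_centralizer_singleton_iff.1 hg).pow_right 2).eq)
          · rw [← hco, ← Nat.card_zpowers]
            exact Subgroup.card_le_of_le (Subgroup.zpowers_le.2 (Subgroup.mem_centralizer_singleton_iff.2 rfl))
    · exact Or.inr ⟨w, ho, hc⟩

/-- The Sylow subgroup is dihedral of order eight. -/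
theorem sylow_shape (hG : ¬ IsCyclic G) {w : G} (hw : orderOf w = 4)
    (hC : Nat.card (Subgroup.centralizer ({w} : Set G)) = 4) :
    ∃ (P : Sylow 2 G) (τ : G), CfsgLib.Blocks.Dihedral.DihPair P w τ 2 := by
  haveI : Fact (Nat.Prime 2) := ⟨Nat.prime_two⟩
  have h2 : 2 ∣ Nat.card G := (dvd_trans (by norm_num) (hw ▸ orderOf_dvd_natCard w))
  obtain ⟨P, hP⟩ := (IsPGroup.of_card (n := 2) (by rw [Nat.card_zpowers, hw]; norm_num) :
    IsPGroup 2 (Subgroup.zpowers w)).exists_le_sylow
  have hwP : w ∈ (P : Subgroup G) := hP (Subgroup.mem_zpowers w)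
  set S : Subgroup G := (P : Subgroup G) with hSdef
  set x : S := ⟨w, hwP⟩ with hx
  have hxo : orderOf x = 4 := by rw [hx, Subgroup.orderOf_mk, hw]
  have hxC : Nat.card (Subgroup.centralizer ({x} : Set S)) = 4 := by
    refine le_antisymm ?_ ?_
    · rw [← hC]
      refine Nat.card_le_card_of_injective (fun g => ⟨((g : S) : G),
        Subgroup.mem_centralizer_singleton_iff.2
          (congrArg Subtype.val (Subgroup.mem_centralizer_singleton_iff.1 g.2))⟩) fun a b e => ?_
      apply Subtype.ext
      apply Subtype.ext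
      have e' := congrArg Subtype.val e
      exact e'
    · rw [← hxo, ← Nat.card_zpowers]
      exact Subgroup.card_le_of_le (Subgroup.zpowers_le.2 (Subgroup.mem_centralizer_singleton_iff.2 rfl))
  obtain ⟨n, hn⟩ := IsPGroup.iff_card.1 P.2
  have hS : IsPGroup 2 S := P.2
  have hn3 : 3 ≤ n := by
    by_contra hc
    have h4 : 4 ≤ Nat.card S := hxC ▸ Nat.card_le_card_of_injective _ (Subgroup.subtype_injective _)
    have hle : (2 : ℕ) ^ n ≤ 2 ^ 2 := Nat.pow_le_pow_right (by norm_num) (by omega)
    have hn' : Nat.card S = 2 ^ n := hn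
    exact not_cyclic_sylow hG h2 P (isCyclic_of_orderOf_eq_card x (by rw [hxo]; omega))
  have hc := CfsgLib.MaximalClass.class_of_centralizer (p := 2) hn (by rw [hxC]; norm_num)
  have h4 : (commutator S).index = 4 := by
    rw [CfsgLib.MaximalClass.index_commutator hn3 hn hc]; norm_num
  have hsq : ∀ g : S, g ^ 2 ∈ commutator S := CfsgLib.MaximalClass.pow_mem_commutator hn3 hn hc
  have h8 : 8 ≤ Nat.card S := by
    rw [hn]; exact le_trans (by norm_num : 8 ≤ 2 ^ 3) (Nat.pow_le_pow_right (by norm_num) hn3)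
  obtain ⟨m, a, b, hm, ha, hcard, hb, hgen, hshape⟩ := CfsgLib.TausskyTwo.cases_taussky hS h4 hsq h8
  rcases hshape with ⟨hconj, hs | hs⟩ | ⟨hm3, hconj, hs⟩
  · have hxa : x ∈ Subgroup.zpowers a := by
      by_contra h
      obtain ⟨i, hi⟩ := Subgroup.mem_zpowers_iff.mp ((hgen x).resolve_left h)
      have hxb : x = b * a ^ i := by rw [hi]; group
      have h1 : b * a ^ i * b⁻¹ = (a ^ i)⁻¹ := by rw [← conj_zpow, hconj, inv_zpow]
      have h2 : x * x = 1 := by
        rw [hxb, show b * a ^ i * (b * a ^ i) = b * a ^ i * b⁻¹ * b ^ 2 * a ^ i by rw [sq]; group, h1,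
          hs, mul_one, inv_mul_cancel]
      have h3 := Nat.le_of_dvd (by norm_num) (orderOf_dvd_of_pow_eq_one (x := x) (n := 2) (by rw [sq]; exact h2))
      rw [hxo] at h3
      omega
    have hm2 : m = 2 := by
      have h1 : Subgroup.zpowers a ≤ Subgroup.centralizer ({x} : Set S) := by
        rintro g ⟨j, rfl⟩
        obtain ⟨i, hi : a ^ i = x⟩ := hxa
        rw [← hi]
        exact Subgroup.mem_centralizer_singleton_iff.2 (Commute.zpow_zpow_self a j i).eq
      have h2 := Subgroup.card_le_of_le h1
      rw [Nat.card_zpowers, ha, hxC] at h2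
      have := (Nat.pow_le_pow_iff_right (show 1 < 2 by norm_num)).1 (show 2 ^ m ≤ 2 ^ 2 by norm_num; omega)
      omega
    subst hm2
    have hxz : Subgroup.zpowers x = Subgroup.zpowers a := Subgroup.eq_of_le_of_card_ge
      (Subgroup.zpowers_le.2 hxa) (by rw [Nat.card_zpowers, Nat.card_zpowers, ha, hxo]; norm_num)
    obtain ⟨e⟩ := CfsgLib.TausskyTwo.dihedral_iso (pow_pos two_pos _) a b ha hs hconj hb hgen
    refine ⟨P, (b : G), { hpow := ⟨0, rfl⟩, iso := ⟨e⟩, mem := hwP, ord := hw, tmem := b.2, tnot := ?_ }⟩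
    rintro ⟨i, hi⟩
    exact hb (hxz ▸ ⟨i, Subtype.ext (by simpa using hi)⟩)
  · exfalso
    have hm1 : 2 ^ m = 2 * 2 ^ (m - 1) := by
      rw [← pow_succ', show m - 1 + 1 = m by omega]
    have htop : Subgroup.closure ({a, b} : Set S) = ⊤ := by
      refine eq_top_iff.2 fun g _ => ?_
      have hza : Subgroup.zpowers a ≤ Subgroup.closure ({a, b} : Set S) :=
        Subgroup.zpowers_le.2 (Subgroup.subset_closure (by simp))
      rcases hgen g with h | h
      · exact hza h
      · have := mul_mem (Subgroup.subset_closure (show b ∈ ({a, b} : Set S) by simp)) (hza h)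
        simpa using this
    obtain ⟨e⟩ := CfsgLib.Quat.nonempty_equiv (a := a) (b := b) (n := 2 ^ (m - 2 + 1))
      (by rw [show m - 2 + 1 = m - 1 by omega, ← hm1, ← ha, pow_orderOf_eq_one])
      (by rw [show m - 2 + 1 = m - 1 by omega, ← sq, hs]) hconj
      (by rw [show m - 2 + 1 = m - 1 by omega, ha, hm1]) hb
    have hcen := Cfsg.Agent.S0201.result P (m - 2)
      ((Subgroup.topEquiv.symm.trans (MulEquiv.subgroupCongr htop.symm)).trans e)
      (fun N hN ho => (Subgroup.Normal.eq_bot_or_eq_top hN).resolve_right fun e => by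
        rw [e, Subgroup.card_top] at ho
        exact Nat.not_even_iff_odd.2 ho (even_iff_two_dvd.2 h2))
    rw [center_eq_bot hG, Subgroup.card_bot] at hcen
    omega
  · exfalso
    have hQD : Cfsg.IsQuasiDihedral S :=
      ⟨m, hm3, hcard, a, b, ha, orderOf_eq_prime hs (fun e => hb (by rw [e]; exact one_mem _)), hconj⟩
    have h16 : 16 ∣ Nat.card G := by
      have h : Nat.card S ∣ Nat.card G := Subgroup.card_subgroup_dvd_card _
      rw [hcard] at h
      exact ((show (16 : ℕ) = 2 ^ 4 by norm_num) ▸ pow_dvd_pow 2 (by omega) : 16 ∣ 2 ^ (m + 1)).trans h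
    have hc4 : orderOf (a ^ 2 ^ (m - 2)) = 4 := by
      rw [orderOf_pow' a (by positivity), ha, Nat.gcd_eq_right (pow_dvd_pow 2 (by omega)),
        Nat.pow_div (by omega) (by norm_num), show m - (m - 2) = 2 by omega]
    obtain ⟨g, hg⟩ := isConj_iff.1 (CfsgLib.RankTwoSimple.isConj_of_card_classes
      (CfsgLib.RankTwoSimple.classes_of_quasiDihedral P hQD h16).2
      (a := w) (b := ((a ^ 2 ^ (m - 2) : S) : G)) hw (by rw [Subgroup.orderOf_coe, hc4]))
    have hle : 2 ^ m ≤ Nat.card (Subgroup.centralizer ({w} : Set G)) := by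
      rw [← ha, ← Subgroup.orderOf_coe, ← Nat.card_zpowers]
      refine Nat.card_le_card_of_injective (fun y => (⟨g⁻¹ * (y : G) * g,
        Subgroup.mem_centralizer_singleton_iff.2 ?_⟩ : Subgroup.centralizer ({w} : Set G))) ?_
      · obtain ⟨_, i, rfl⟩ := y
        have h1 : Commute ((a : G) ^ i) (g * w * g⁻¹) := by
          rw [hg, Subgroup.coe_pow]
          exact (Commute.refl (a : G)).zpow_left i |>.pow_right _
        have h2 := (Commute.conj_iff g⁻¹).2 h1
        have e : g⁻¹ * (g * w * g⁻¹) * g⁻¹⁻¹ = w := by group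
        rw [e, inv_inv] at h2
        exact h2.eq
      · intro y y' e
        exact Subtype.ext (mul_left_cancel (mul_right_cancel (congrArg Subtype.val e)))
    have : 8 ≤ 2 ^ m := le_trans (by norm_num : 8 ≤ 2 ^ 3) (Nat.pow_le_pow_right (by norm_num) hm3)
    omega

end CfsgLib.SmallCent
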