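import Mathlib

/-!
# Arithmetic for simple groups with a centraliser of order four
-/

set_option autoImplicit false

namespace CfsgLib.SmallCent

theorem order_split {g s x : ℕ} {δ : ℤ} (hδ : δ = 1 ∨ δ = -1) (hx : 0 < x) (hg : Odd g) (hs : Even s)
    (hne : (x : ℤ) ≠ δ) (h : (g : ℤ) * ((x : ℤ) - δ) ^ 2 = 8 * x * ((x : ℤ) + δ) * (s : ℤ) ^ 2) :
    ∃ t k : ℕ, 2 ≤ t ∧ Even t ∧ Odd k ∧ s = t * k ∧ (x : ℤ) = 4 * t + δ ∧
      (g : ℤ) = (4 * (t : ℤ) + δ) * (2 * t + δ) * (k : ℤ) ^ 2 := by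
  have hgo : Odd (g : ℤ) := (Int.odd_coe_nat g).2 hg
  have hd : Odd δ := by rcases hδ with rfl | rfl <;> decide
  have hxo : Odd (x : ℤ) := by
    by_contra hc
    rw [Int.not_odd_iff_even] at hc
    have h1 : Odd ((g : ℤ) * ((x : ℤ) - δ) ^ 2) := hgo.mul ((hc.sub_odd hd).pow)
    rw [h, ← Int.not_even_iff_odd] at h1
    exact h1 ⟨4 * x * ((x : ℤ) + δ) * (s : ℤ) ^ 2, by ring⟩
  obtain ⟨e, he⟩ : (2 : ℤ) ∣ (x : ℤ) - δ := even_iff_two_dvd.1 (hxo.sub_odd hd)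
  have h2 : (g : ℤ) * e ^ 2 = 4 * x * (e + δ) * (s : ℤ) ^ 2 := by
    have hx' : (x : ℤ) = 2 * e + δ := by omega
    rw [he] at h
    rw [hx'] at h ⊢
    linarith
  obtain ⟨t, rfl⟩ : (2 : ℤ) ∣ e := by
    have hev : Even ((g : ℤ) * e ^ 2) := ⟨2 * x * (e + δ) * (s : ℤ) ^ 2, by rw [h2]; ring⟩
    rcases Int.even_mul.1 hev with h3 | h3
    · exact absurd h3 (Int.not_even_iff_odd.2 hgo)
    · exact even_iff_two_dvd.1 (Int.even_pow.1 h3).1
  have ht0 : t ≠ 0 := fun e => hne (by subst e; omega)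
  have htpos : 0 < t := by rcases hδ with rfl | rfl <;> omega
  have hx4 : (x : ℤ) = 4 * t + δ := by omega
  have h3 : (g : ℤ) * t ^ 2 = (4 * t + δ) * (2 * t + δ) * (s : ℤ) ^ 2 := by
    rw [hx4] at h2; linarith
  have hc1 : IsCoprime t (4 * t + δ) := ⟨-4 * δ, δ, by rcases hδ with rfl | rfl <;> ring⟩
  have hc2 : IsCoprime t (2 * t + δ) := ⟨-2 * δ, δ, by rcases hδ with rfl | rfl <;> ring⟩
  have hts : t ^ 2 ∣ (s : ℤ) ^ 2 :=
    (IsCoprime.pow_left (hc1.mul_right hc2)).dvd_of_dvd_mul_left ⟨g, by rw [← h3]; ring⟩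
  obtain ⟨c, hc⟩ := (Int.pow_dvd_pow_iff two_ne_zero).1 hts
  have hg' : (g : ℤ) = (4 * t + δ) * (2 * t + δ) * c ^ 2 := by
    apply mul_right_cancel₀ (pow_ne_zero 2 ht0)
    rw [h3, hc]; ring
  have hco : Odd c := by
    rw [hg'] at hgo
    exact Int.Odd.of_mul_left (n := c) ((pow_two c) ▸ (Int.Odd.of_mul_right hgo))
  have hc0 : 0 ≤ c := by
    by_contra hn
    push Not at hn
    nlinarith [Int.natCast_nonneg s]
  lift t to ℕ using htpos.le
  lift c to ℕ using hc0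
  have hsc : s = t * c := by exact_mod_cast hc
  have hte : Even t := by
    rw [hsc, Nat.even_mul] at hs
    exact hs.resolve_right (Nat.not_even_iff_odd.2 ((Int.odd_coe_nat c).1 hco))
  refine ⟨t, c, ?_, hte, (Int.odd_coe_nat c).1 hco, hsc, hx4, hg'⟩
  obtain ⟨r, hr⟩ := hte
  omega

theorem disc_eq {A B δ q k x t u₁ u₂ : ℤ} (hδ : δ * δ = 1) (hx : x = 4 * t + δ) (hq : q = 2 * t + δ)
    (hs : u₁ + u₂ = t * k) (hsum : A + B = -2 * δ * q)
    (hprod : (k ^ 2 * q ^ 2 - 16 * (u₁ * u₂)) * (A * B) = δ * x * q ^ 2 * k ^ 2) :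
    (k ^ 2 * q ^ 2 - 16 * (u₁ * u₂)) * (A - B) ^ 2 = 16 * q ^ 2 * (u₁ - u₂) ^ 2 := by
  have e1 : (A - B) ^ 2 = 4 * q ^ 2 - 4 * (A * B) := by
    have : (A + B) ^ 2 = 4 * q ^ 2 := by
      rw [hsum]; linear_combination (4 * q ^ 2) * hδ
    linear_combination this
  rw [e1, mul_sub, show ∀ Q : ℤ, Q * (4 * (A * B)) = 4 * (Q * (A * B)) from fun Q => by ring, hprod]
  have e2 : k ^ 2 * q ^ 2 - δ * x * k ^ 2 - 4 * k ^ 2 * t ^ 2 = 0 := by
    subst hx hq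
    linear_combination 0 * hδ
  have e3 : k ^ 2 * t ^ 2 = (u₁ + u₂) ^ 2 := by rw [hs]; ring
  linear_combination (4 * q ^ 2) * e2 + (16 * q ^ 2) * e3

/-- The cases with one of the two reflection cores trivial. -/
theorem one_trivial {A B δ : ℤ} {t k u : ℕ} (hδ : δ = 1 ∨ δ = -1) (hu : 3 ≤ u) (huo : Odd u)
    (ht : 2 ≤ t) (hk : Odd k) (hs : u + 1 = t * k)
    (hsum : A + B = -2 * δ * (2 * t + δ))
    (hprod : ((k : ℤ) ^ 2 * (2 * t + δ) ^ 2 - 16 * u) * (A * B) =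
      δ * (4 * t + δ) * (2 * t + δ) ^ 2 * (k : ℤ) ^ 2) :
    δ = -1 ∧ ((u = 3 ∧ t = 4 ∧ k = 1) ∨ (u = 5 ∧ t = 2 ∧ k = 3)) := by
  have hd := disc_eq (A := A) (B := B) (x := 4 * (t : ℤ) + δ) (q := 2 * (t : ℤ) + δ) (k := (k : ℤ))
    (t := (t : ℤ)) (δ := δ) (u₁ := (u : ℤ)) (u₂ := 1) (by rcases hδ with rfl | rfl <;> rfl) rfl rfl
    (by exact_mod_cast hs) hsum (by rw [mul_one]; exact hprod)
  rw [mul_one] at hd
  set q : ℤ := 2 * (t : ℤ) + δ with hq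
  have hq3 : 3 ≤ q := by rcases hδ with rfl | rfl <;> omega
  have hk1 : 1 ≤ (k : ℤ) := by have := hk.pos; omega
  have hAB : A - B ≠ 0 := by
    intro e
    rw [e] at hd
    have : 0 < 16 * q ^ 2 * ((u : ℤ) - 1) ^ 2 := by
      have : (0 : ℤ) < (u : ℤ) - 1 := by omega
      positivity
    rw [← hd] at this
    simp at this
  have hsq : (A - B) ^ 2 ∣ (4 * q * ((u : ℤ) - 1)) ^ 2 := ⟨(k : ℤ) ^ 2 * q ^ 2 - 16 * u, by
    linear_combination -hd⟩
  obtain ⟨m, hm⟩ := (Int.pow_dvd_pow_iff two_ne_zero).1 hsq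
  have hQ : (k : ℤ) ^ 2 * q ^ 2 - 16 * u = |m| ^ 2 := by
    rw [sq_abs]
    apply mul_right_cancel₀ (pow_ne_zero 2 hAB)
    rw [hd]
    linear_combination (4 * q * ((u : ℤ) - 1) + (A - B) * m) * hm
  have hko : Odd ((k : ℤ) * q) := ((Int.odd_coe_nat k).2 hk).mul (by
    rcases hδ with rfl | rfl
    · exact ⟨t, rfl⟩
    · exact ⟨(t : ℤ) - 1, by rw [hq]; ring⟩)
  have hmo : Odd |m| := by
    have : Odd (|m| ^ 2) := by
      rw [← hQ, ← mul_pow]
      exact hko.pow.sub_even ⟨8 * u, by ring⟩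
    exact Int.Odd.of_mul_left (m := |m|) (by rwa [sq] at this)
  obtain ⟨e, he⟩ : (2 : ℤ) ∣ (k : ℤ) * q - |m| := even_iff_two_dvd.1 (hko.sub_odd hmo)
  set f : ℤ := (k : ℤ) * q - e with hf
  have hef : e * f = 4 * u := by
    have h1 : (((k : ℤ) * q) - |m|) * ((k : ℤ) * q + |m|) = 16 * u := by linear_combination hQ
    have h2 : (k : ℤ) * q + |m| = 2 * f := by omega
    rw [he, h2] at h1
    linarith
  have hm0 : 0 ≤ |m| := abs_nonneg m
  have hepos : 0 < e := by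
    have hfpos : 0 < f := by nlinarith
    by_contra hc
    push Not at hc
    nlinarith
  have hfpos : 0 < f := by omega
  have hkey : ∃ g h : ℤ, 0 < g ∧ 0 < h ∧ g * h = u ∧ 4 * g + h = (k : ℤ) * q := by
    rcases Int.even_or_odd e with hev | hod
    · have hfo : Odd f := hko.sub_even hev
      obtain ⟨g, hg⟩ : (4 : ℤ) ∣ e := by
        refine (IsCoprime.pow_left (m := 2) (x := (2 : ℤ)) ?_).dvd_of_dvd_mul_right (x := (4 : ℤ))
          (z := f) ⟨u, hef⟩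
        exact (Int.prime_two.coprime_iff_not_dvd).2 fun h => Int.not_even_iff_odd.2 hfo (even_iff_two_dvd.2 h)
      exact ⟨g, f, by omega, hfpos, by rw [hg] at hef; linarith, by omega⟩
    · obtain ⟨g, hg⟩ : (4 : ℤ) ∣ f := by
        refine (IsCoprime.pow_left (m := 2) (x := (2 : ℤ)) ?_).dvd_of_dvd_mul_left (x := (4 : ℤ))
          (y := e) ⟨u, hef⟩
        exact (Int.prime_two.coprime_iff_not_dvd).2 fun h => Int.not_even_iff_odd.2 hod (even_iff_two_dvd.2 h)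
      exact ⟨g, e, by omega, hepos, by rw [hg] at hef; linarith, by omega⟩
  obtain ⟨g, h, hg, hh, hgh, hsum'⟩ := hkey
  have hs' : (u : ℤ) + 1 = t * k := by exact_mod_cast hs
  have hmain : δ * (k : ℤ) = -((2 * g - 1) * (h - 2)) := by
    rw [hq] at hsum'
    linear_combination -hsum' + 2 * hs' + 2 * hgh
  rcases hδ with rfl | rfl
  · exfalso
    have hh1 : h = 1 := by
      by_contra hc
      have h2 := mul_nonneg (show (0 : ℤ) ≤ 2 * g - 1 by omega) (show (0 : ℤ) ≤ h - 2 by omega)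
      linarith
    subst hh1
    have hk' : (k : ℤ) = 2 * g - 1 := by linarith
    have h3 := mul_le_mul_of_nonneg_right (show (2 : ℤ) ≤ t by omega) (show (0 : ℤ) ≤ (k : ℤ) by omega)
    have h4 : (u : ℤ) = g := by linarith
    omega
  · refine ⟨rfl, ?_⟩
    have hk2 : (k : ℤ) = (2 * g - 1) * (h - 2) := by linarith
    have ha : 1 ≤ 2 * g - 1 := by omega
    have hb : 1 ≤ h - 2 := by
      by_contra hc
      have h2 := mul_nonpos_of_nonneg_of_nonpos (show (0 : ℤ) ≤ 2 * g - 1 by omega) (show h - 2 ≤ 0 by omega)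
      linarith
    have h3 : 3 * ((2 * g - 1) * (h - 2)) ≤ 2 * (2 * g - 1) + (h - 2) + 4 := by
      have : (3 : ℤ) * k ≤ (2 * (t : ℤ) - 1) * k :=
        mul_le_mul_of_nonneg_right (by omega) (by omega)
      have e : (2 * (t : ℤ) - 1) * k = 2 * (2 * g - 1) + (h - 2) + 4 := by
        linear_combination -2 * hs' - hk2 - 2 * hgh
      rw [← hk2]
      linarith
    have hgle : g ≤ 3 := by
      have h2 := mul_nonneg (show (0 : ℤ) ≤ 3 * (2 * g - 1) - 1 by omega) (show (0 : ℤ) ≤ h - 2 - 1 by omega)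
      linarith
    have hhle : h ≤ 5 := by
      have h2 := mul_nonneg (show (0 : ℤ) ≤ 2 * g - 1 - 1 by omega) (show (0 : ℤ) ≤ 3 * (h - 2) - 2 by omega)
      linarith
    have hh3 : 3 ≤ h := by omega
    have hkN : ∀ a : ℕ, (k : ℤ) = a → k = a := fun a e => by exact_mod_cast e
    have huN : ∀ a : ℕ, (u : ℤ) = a → u = a := fun a e => by exact_mod_cast e
    obtain ⟨uo, huo⟩ := huo
    interval_cases g <;> interval_cases h <;> norm_num at hk2 hgh h3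
    all_goals
      first
      | (have hk' : k = 1 := by omega
         subst hk'
         left; exact ⟨by omega, by omega, rfl⟩)
      | (have hk' : k = 3 := by omega
         subst hk'
         right; exact ⟨by omega, by omega, rfl⟩)
      | (have hk' : k = 5 := by omega
         subst hk'
         exfalso
         have ht' : t = 2 := by omega
         subst ht'
         obtain rfl : uo = 4 := by omega
         subst huo
         rw [hq] at hprod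
         norm_num at hprod
         omega)
      | omega

theorem big_order {δ : ℤ} {t k u₁ u₂ : ℕ} (hδ : δ = 1 ∨ δ = -1) (h1 : 3 ≤ u₁) (h2 : 3 ≤ u₂)
    (ht : 2 ≤ t) (hs : u₁ + u₂ = t * k) :
    5040 < 8 * ((u₁ : ℤ) * u₂) * ((4 * (t : ℤ) + δ) * (2 * t + δ) * (k : ℤ) ^ 2) := by
  have e1 : 3 * (t : ℤ) ^ 2 ≤ (4 * (t : ℤ) + δ) * (2 * t + δ) := by rcases hδ with rfl | rfl <;> nlinarith
  have e2 : 108 ≤ 3 * (t : ℤ) ^ 2 * (k : ℤ) ^ 2 := by
    have : (6 : ℤ) ≤ t * k := by exact_mod_cast (show 6 ≤ t * k by omega)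
    nlinarith
  have e3 : 9 ≤ (u₁ : ℤ) * u₂ := by nlinarith
  have e4 : 3 * (t : ℤ) ^ 2 * (k : ℤ) ^ 2 ≤ (4 * (t : ℤ) + δ) * (2 * t + δ) * (k : ℤ) ^ 2 :=
    mul_le_mul_of_nonneg_right e1 (sq_nonneg _)
  nlinarith

theorem index_cases {δ : ℤ} {t k u₁ u₂ n I : ℕ} (hδ : δ = 1 ∨ δ = -1) (h1 : 3 ≤ u₁) (h12 : u₁ ≤ u₂)
    (ht : 2 ≤ t) (hs : u₁ + u₂ = t * k) (hn : n % 8 = 6) (hI : 3 * (u₂ : ℤ) ^ 2 ≤ I)
    (h : (n : ℤ) * I = 2 * ((4 * (t : ℤ) + δ) * (2 * t + δ) * (k : ℤ) ^ 2)) :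
    n = 6 ∨ n = 14 ∨ (n = 22 ∧ δ = 1 ∧ t ≤ 24) ∨ (n = 30 ∧ δ = 1 ∧ t = 2 ∧ u₁ = u₂) := by
  have hsN : (u₁ : ℤ) + u₂ = t * k := by exact_mod_cast hs
  have hs2 : ((t : ℤ) * k) ^ 2 ≤ 4 * (u₂ : ℤ) ^ 2 := by
    rw [← hsN]; nlinarith [show (u₁ : ℤ) ≤ u₂ by exact_mod_cast h12]
  have hu : (0 : ℤ) < (u₂ : ℤ) ^ 2 := by
    have : (0 : ℤ) < u₂ := by omega
    positivity
  have hnI : (n : ℤ) * (3 * (u₂ : ℤ) ^ 2) ≤ n * I := mul_le_mul_of_nonneg_left hI (by positivity)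
  have hk0 : (0 : ℤ) ≤ (k : ℤ) ^ 2 := sq_nonneg _
  have ht' : (2 : ℤ) ≤ t := by exact_mod_cast ht
  rcases hδ with rfl | rfl
  · have e1 : 4 * ((4 * (t : ℤ) + 1) * (2 * t + 1)) ≤ 45 * (t : ℤ) ^ 2 := by nlinarith
    have e2 : 4 * ((4 * (t : ℤ) + 1) * (2 * t + 1) * (k : ℤ) ^ 2) ≤ 45 * ((t : ℤ) * k) ^ 2 := by
      nlinarith [mul_le_mul_of_nonneg_right e1 hk0]
    have hn30 : (n : ℤ) ≤ 30 := by
      by_contra hc
      push Not at hc
      have := mul_le_mul_of_nonneg_right (show (31 : ℤ) ≤ n by omega) (show (0 : ℤ) ≤ 3 * (u₂ : ℤ) ^ 2 by positivity)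
      linarith
    have : n ≤ 30 := by exact_mod_cast hn30
    have : n = 6 ∨ n = 14 ∨ n = 22 ∨ n = 30 := by omega
    rcases this with rfl | rfl | rfl | rfl
    · simp
    · simp
    · refine Or.inr (Or.inr (Or.inl ⟨rfl, rfl, ?_⟩))
      by_contra hc
      push Not at hc
      have hc' : (25 : ℤ) ≤ t := by exact_mod_cast hc
      have e3 : 4 * ((4 * (t : ℤ) + 1) * (2 * t + 1)) < 33 * (t : ℤ) ^ 2 := by nlinarith
      have hkpos : (0 : ℤ) < (k : ℤ) ^ 2 := by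
        rcases Nat.eq_zero_or_pos k with rfl | hk
        · simp at hs; omega
        · have : (0 : ℤ) < k := by exact_mod_cast hk
          positivity
      have e4 : 4 * ((4 * (t : ℤ) + 1) * (2 * t + 1) * (k : ℤ) ^ 2) < 33 * ((t : ℤ) * k) ^ 2 := by
        nlinarith [mul_lt_mul_of_pos_right e3 hkpos]
      push_cast at hnI h
      linarith
    · refine Or.inr (Or.inr (Or.inr ⟨rfl, rfl, ?_, ?_⟩))
      · by_contra hc
        have hc' : (3 : ℤ) ≤ t := by exact_mod_cast (show 3 ≤ t by omega)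
        have e3 : 4 * ((4 * (t : ℤ) + 1) * (2 * t + 1)) < 45 * (t : ℤ) ^ 2 := by nlinarith
        have hkpos : (0 : ℤ) < (k : ℤ) ^ 2 := by
          rcases Nat.eq_zero_or_pos k with rfl | hk
          · simp at hs; omega
          · have : (0 : ℤ) < k := by exact_mod_cast hk
            positivity
        have e4 : 4 * ((4 * (t : ℤ) + 1) * (2 * t + 1) * (k : ℤ) ^ 2) < 45 * ((t : ℤ) * k) ^ 2 := by
          nlinarith [mul_lt_mul_of_pos_right e3 hkpos]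
        push_cast at hnI h
        linarith
      · by_contra hc
        have hc' : (u₁ : ℤ) + 1 ≤ u₂ := by exact_mod_cast (show u₁ + 1 ≤ u₂ by omega)
        have : ((t : ℤ) * k) ^ 2 < 4 * (u₂ : ℤ) ^ 2 := by rw [← hsN]; nlinarith
        push_cast at hnI h
        linarith
  · have e1 : (4 * (t : ℤ) + -1) * (2 * t + -1) ≤ 8 * (t : ℤ) ^ 2 := by nlinarith
    have e2 : (4 * (t : ℤ) + -1) * (2 * t + -1) * (k : ℤ) ^ 2 ≤ 8 * ((t : ℤ) * k) ^ 2 := by
      nlinarith [mul_le_mul_of_nonneg_right e1 hk0]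
    have hn21 : (n : ℤ) ≤ 21 := by
      by_contra hc
      push Not at hc
      have := mul_le_mul_of_nonneg_right (show (22 : ℤ) ≤ n by omega) (show (0 : ℤ) ≤ 3 * (u₂ : ℤ) ^ 2 by positivity)
      linarith
    have : n ≤ 21 := by exact_mod_cast hn21
    omega

theorem no_eleven {t : ℕ} (ht : t ≤ 24) (ht2 : 2 ≤ t) (he : Even t) (hx : 4 * t + 1 ∣ Nat.factorial 11)
    (hq : 2 * t + 1 ∣ Nat.factorial 11) (h11 : 11 ∣ (4 * t + 1) * (2 * t + 1)) : False := by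
  obtain ⟨r, rfl⟩ := he
  have hr : r ≤ 12 := by omega
  interval_cases r <;> simp_all [Nat.factorial]

end CfsgLib.SmallCent
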