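import Cfsg.Agent.Lib.SmallCent.Setup
import Cfsg.Agent.S4481
import Cfsg.Agent.S4482
import Cfsg.Agent.S0107
import Cfsg.Agent.Lib.Blocks.Vanishing

/-!
# The two equations from the principal two-block
-/

set_option autoImplicit false
set_option linter.unusedSectionVars false
set_option linter.style.haveILetI false

namespace CfsgLib.SmallCent

open Cfsg CfsgLib.Blocks CfsgLib.Blocks.Dihedral CfsgLib.CharTheory
open scoped ComplexConjugate

universe u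

variable {G : Type u} [Group G] [Finite G]

theorem irr_class (χ : IrrCharacter G) (g h : G) : (χ : G → ℂ) (g * h * g⁻¹) = (χ : G → ℂ) h := by
  obtain ⟨n, ρ, -, e⟩ := χ.2
  rw [← e, Representation.char_conj]

theorem pResidual_top [IsSimpleGroup G] (h : ¬ IsPGroup 2 G) : Cfsg.pResidual 2 G = ⊤ := by
  haveI : Fact (Nat.Prime 2) := ⟨Nat.prime_two⟩
  have hn : (Cfsg.pResidual 2 G).Normal := by
    rw [Cfsg.pResidual]
    refine ⟨fun x hx g => ?_⟩
    have h1 : MulAut.conj g x ∈ (Subgroup.closure {g : G | Nat.Coprime (orderOf g) 2}).map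
        (MulAut.conj g).toMonoidHom := ⟨x, hx, rfl⟩
    rw [MonoidHom.map_closure] at h1
    refine (Subgroup.closure_le _).2 ?_ h1
    rintro _ ⟨y, hy, rfl⟩
    refine Subgroup.subset_closure ?_
    show Nat.Coprime (orderOf (MulAut.conj g y)) 2
    rw [MulEquiv.orderOf_eq]; exact hy
  refine hn.eq_bot_or_eq_top.resolve_left fun e => h fun g => ?_
  obtain ⟨k, m, hm, hg⟩ := Nat.exists_eq_pow_mul_and_not_dvd (orderOf_pos g).ne' 2 (by norm_num)
  refine ⟨k, ?_⟩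
  have hmem : g ^ 2 ^ k ∈ Cfsg.pResidual 2 G := Subgroup.subset_closure (by
    show Nat.Coprime (orderOf (g ^ 2 ^ k)) 2
    rw [orderOf_pow' g (by positivity), hg, Nat.gcd_mul_right_left, Nat.mul_div_cancel_left _ (by positivity)]
    exact (Nat.prime_two.coprime_iff_not_dvd.2 hm).symm)
  rw [e] at hmem
  exact hmem

namespace Setup

variable {P : Sylow 2 G} {w τ : G} {K : Subgroup G}

theorem one_class [IsSimpleGroup G] (S : Setup P w τ K) (h : ¬ IsPGroup 2 G) {a b : G}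
    (ha : orderOf a = 2) (hb : orderOf b = 2) : IsConj a b :=
  isConj_iff.2 (Cfsg.Agent.S0107.result P 2 le_rfl S.pair.iso (pResidual_top h) a b ha hb)

theorem refl_sq (S : Setup P w τ K) : τ ≠ 1 ∧ w * τ * (w * τ) = 1 ∧ w * τ ≠ 1 :=
  ⟨S.four_ne.1, S.swap.tt, S.swap.four_ne.1⟩

theorem pairCount_eq [IsSimpleGroup G] (S : Setup P w τ K) (h : ¬ IsPGroup 2 G) :
    pairCount (w ^ 2) (w ^ 2) w = 4 := by
  have hc : IsConj (w ^ 2) τ ∧ IsConj (w ^ 2) (w * τ) :=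
    ⟨S.one_class h S.z_ord (orderOf_eq_prime (by rw [sq]; exact S.tt) S.four_ne.1),
      S.one_class h S.z_ord (orderOf_eq_prime (by rw [sq]; exact S.swap.tt) S.swap.four_ne.1)⟩
  have hiff : ∀ a : G, IsConj (w ^ 2) a ↔ a * a = 1 ∧ a ≠ 1 := fun a => ⟨fun e => by
    obtain ⟨g, rfl⟩ := isConj_iff.1 e
    refine ⟨?_, fun e' => S.z_ne.1 (conj_eq_one_iff.1 e')⟩
    rw [show g * w ^ 2 * g⁻¹ * (g * w ^ 2 * g⁻¹) = g * (w ^ 2 * w ^ 2) * g⁻¹ by group, S.z_ne.2]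
    group, fun e => S.one_class h S.z_ord (orderOf_eq_prime (by rw [sq]; exact e.1) e.2)⟩
  have hmem : ∀ m : ℕ, IsConj (w ^ 2) (w ^ m * τ) ∧ IsConj (w ^ 2) ((w ^ m * τ)⁻¹ * w) := by
    intro m
    have h1 := S.pair.toDih.out (S.pair.refl_mem m) (S.pair.refl_not m)
    refine ⟨(hiff _).2 ⟨h1.1, fun e => S.pair.refl_not m (e ▸ one_mem _)⟩, ?_⟩
    rw [inv_eq_of_mul_eq_one_left h1.1]
    have h2 : w ^ m * τ * w ∉ Subgroup.zpowers w := fun e => S.pair.refl_not m (by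
      simpa using mul_mem e (inv_mem (Subgroup.mem_zpowers w)))
    exact (hiff _).2
      ⟨(S.pair.toDih.out (mul_mem (S.pair.refl_mem m) S.pair.mem) h2).1, fun e => h2 (e ▸ one_mem _)⟩
  rw [pairCount, show (4 : ℕ) = Nat.card (Fin 4) from (Nat.card_fin 4).symm]
  symm
  refine Nat.card_eq_of_bijective
    (fun m : Fin 4 => (⟨w ^ (m : ℕ) * τ, hmem m⟩ : {a : G // IsConj (w ^ 2) a ∧ IsConj (w ^ 2) (a⁻¹ * w)}))
    ⟨fun a b e => ?_, ?_⟩
  · exact Fin.ext (S.pair.pow_inj' (h := 2) a.2 b.2 (congrArg Subtype.val e))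
  · rintro ⟨a, h1, h2⟩
    obtain ⟨a1, -⟩ := (hiff _).1 h1
    obtain ⟨a2, -⟩ := (hiff _).1 h2
    rw [inv_eq_of_mul_eq_one_left a1] at a2
    have hcm : a * τ ∈ Subgroup.centralizer ({w} : Set G) := by
      refine Subgroup.mem_centralizer_singleton_iff.2 ?_
      have e1 : τ * w = w⁻¹ * τ := mul_inv_eq_iff_eq_mul.1 S.pair.tinv.2
      have e2 : a * w⁻¹ = w * a :=
        calc a * w⁻¹ = a * (a * w * (a * w)) * w⁻¹ := by rw [a2, mul_one]
          _ = a * a * (w * a) := by group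
          _ = w * a := by rw [a1, one_mul]
      rw [mul_assoc, e1, ← mul_assoc, e2, mul_assoc]
    rw [S.cent_eq] at hcm
    obtain ⟨m, hm, e⟩ := S.pair.exists_pow hcm
    refine ⟨⟨m, hm⟩, Subtype.ext ?_⟩
    show w ^ m * τ = a
    rw [← e, mul_assoc, S.tt, mul_one]

end Setup

theorem equations [IsSimpleGroup G] {P : Sylow 2 G} {w τ : G} {K : Subgroup G} (S : Setup P w τ K)
    (h2g : ¬ IsPGroup 2 G) :
    ∃ (x : ℕ) (A B δ : ℤ), (δ = 1 ∨ δ = -1) ∧ 0 < x ∧ (x : ℤ) ≠ δ ∧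
      (Nat.card G : ℤ) * ((x : ℤ) - δ) ^ 2 =
        64 * x * ((x : ℤ) + δ) * ((Nat.card (fixK K τ) : ℤ) * Nat.card (fixK K (w * τ))) *
          ((Nat.card (fixK K τ) : ℤ) + Nat.card (fixK K (w * τ))) ^ 2 ∧
      A + B = -(1 + δ * x) ∧
      256 * ((Nat.card (fixK K τ) : ℤ) * Nat.card (fixK K (w * τ))) ^ 2 * x * A * B =
        (Nat.card G : ℤ) * (((x : ℤ) + δ) * (A * B) + x * (A + B)) ∧
      ∀ d : ℕ, d = x ∨ d = A.natAbs → ∃ (M : Ideal AlgInt) (χ : IrrCharacter G) (e : ℤ), IsPModular 2 M ∧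
        χ ∈ principalBlock M G ∧ (χ : G → ℂ) ≠ (fun _ => 1) ∧ charDegree (χ : G → ℂ) = d ∧ (e = 1 ∨ e = -1) ∧
        ∀ v : G, orderOf v = 2 → (χ : G → ℂ) v = e := by
  classical
  haveI := Fintype.ofFinite G
  obtain ⟨M, hM⟩ := exists_isPModular Nat.prime_two
  have hc : IsConj (w ^ 2) τ ∧ IsConj (w ^ 2) (w * τ) :=
    ⟨S.one_class h2g S.z_ord (orderOf_eq_prime (by rw [sq]; exact S.tt) S.four_ne.1),
      S.one_class h2g S.z_ord (orderOf_eq_prime (by rw [sq]; exact S.swap.tt) S.swap.four_ne.1)⟩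
  have hσo : orderOf w = 2 ^ (3 - 1) := S.hw
  obtain ⟨-, χ₁, χ₂, χ₃, χ', δ, δ₂, δ₃, hδ, hδ₂, hδ₃, -, n1, n2, n3, d12, d13, d23, -, hB, hval, hrel⟩ :=
    Cfsg.Agent.S4481.result M hM 3 le_rfl P S.pair.iso w S.pair.mem hσo
      (Complex.exp (2 * Real.pi * Complex.I / (2 ^ (3 - 1) : ℕ))) (Complex.isPrimitiveRoot_exp _ (by norm_num))
  have hz : (w ^ 2 ^ (3 - 2)) = w ^ 2 := rfl
  have hmem : ∀ χ, χ = χ₁ ∨ χ = χ₂ ∨ χ = χ₃ → χ ∈ principalBlock M G := by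
    rintro χ (rfl | rfl | rfl) <;> rw [hB] <;> simp
  obtain ⟨hne, hord⟩ := Cfsg.Agent.S4482.result M hM 3 le_rfl P w τ S.pair.mem S.pair.tmem hσo
    (orderOf_eq_prime (by rw [sq]; exact S.tt) S.four_ne.1) S.pair.tinv.2 S.gen hc χ₁
    (hmem _ (Or.inl rfl)) n1 δ hδ (fun l a b => (hval l a b).1)
  obtain ⟨w1, w2, w3, -⟩ := hval 1 Nat.one_pos (by norm_num)
  obtain ⟨z1, z2, z3, -⟩ := hval 2 (by norm_num) (by norm_num)
  norm_num at w2 w3 z2 z3
  rw [pow_one] at w1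
  set x := charDegree (χ₁ : G → ℂ) with hxdef
  set x₂ := charDegree (χ₂ : G → ℂ) with hx2def
  set x₃ := charDegree (χ₃ : G → ℂ) with hx3def
  set c₁ := Nat.card (fixK K τ) with hc1
  set c₂ := Nat.card (fixK K (w * τ)) with hc2
  have hxc : ∀ χ : IrrCharacter G, (χ : G → ℂ) 1 = (charDegree (χ : G → ℂ) : ℂ) :=
    fun χ => (irr_charDegree_cast χ).symm
  have hpos : ∀ χ : IrrCharacter G, 0 < charDegree (χ : G → ℂ) := fun χ =>
    Nat.pos_of_ne_zero fun e => irr_ne_zero χ.2 (by rw [hxc χ, e, Nat.cast_zero])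
  have hunit : ∀ {e : ℤ}, e = 1 ∨ e = -1 → e * e = 1 := by
    rintro e (rfl | rfl) <;> rfl
  refine ⟨x, δ₂ * x₂, δ₃ * x₃, δ, hδ, hpos χ₁, hne, ?_, ?_, ?_, ?_⟩
  · rw [hz, S.card_cent_z, S.card_cent_pair, S.swap.card_cent_pair] at hord
    have h1 : (0 : ℚ) < c₁ := by exact_mod_cast (Nat.card_pos : 0 < c₁)
    have h2 : (0 : ℚ) < c₂ := by exact_mod_cast (Nat.card_pos : 0 < c₂)
    have key : (Nat.card G : ℚ) * ((x : ℚ) - δ) ^ 2 =
        64 * x * ((x : ℚ) + δ) * ((c₁ : ℚ) * c₂) * ((c₁ : ℚ) + c₂) ^ 2 := by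
      rw [hord]
      push_cast
      field_simp
      ring
    exact_mod_cast key
  · have e := (hrel 1 (by simp) ⟨0, by norm_num⟩).1
    rw [hxc, hxc, hxc] at e
    apply Int.cast_injective (α := ℂ)
    push_cast
    linear_combination e
  · have hcz : Nat.card (Subgroup.centralizer ({w ^ 2} : Set G)) = 8 * (c₁ * c₂) := S.card_cent_z
    have hclv : ∀ χ : IrrCharacter G, clv (w ^ 2) χ * ((8 * (c₁ * c₂) : ℕ) : ℂ) =
        (Nat.card G : ℂ) * ((χ : G → ℂ) (w ^ 2) / (χ : G → ℂ) 1) := by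
      intro χ
      rw [clv, centralChar, ← Subgroup.index_mul_card (Subgroup.centralizer ({w ^ 2} : Set G)),
        hcz]
      push_cast
      ring
    have hsum := pairCount_mul (w ^ 2) (w ^ 2) w
    rw [S.pairCount_eq h2g, hcz] at hsum
    have h0 : ((χ₁ : IrrCharacter G) ≠ oneIrr G ∧ χ₂ ≠ oneIrr G) ∧ χ₃ ≠ oneIrr G :=
      ⟨⟨fun e => n1 (by rw [e]; rfl), fun e => n2 (by rw [e]; rfl)⟩, fun e => n3 (by rw [e]; rfl)⟩
    set T : Finset (IrrCharacter G) := {oneIrr G, χ₁, χ₂, χ₃} with hT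
    have hone : ∀ g, (oneIrr G : G → ℂ) g = 1 := fun g => rfl
    have hnot1 : oneIrr G ∉ ({χ₁, χ₂, χ₃} : Finset (IrrCharacter G)) := by
      simp [h0.1.1.symm, h0.1.2.symm, h0.2.symm]
    have hvanish : ∀ χ ∉ T, (χ : G → ℂ) w = 0 := by
      have hn := sum_irr_mul_conj w w
      rw [if_pos (IsConj.refl w), S.cent] at hn
      have hre : ∑ χ : IrrCharacter G, Complex.normSq ((χ : G → ℂ) w) = 4 := by
        have := congrArg Complex.re hn
        simpa [Complex.mul_conj] using this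
      rw [← Finset.sum_add_sum_compl T] at hre
      have hT4 : ∑ χ ∈ T, Complex.normSq ((χ : G → ℂ) w) = 4 := by
        rw [hT, Finset.sum_insert hnot1, Finset.sum_insert (by simp [d12, d13]),
          Finset.sum_pair d23, hone, w1, w2, w3]
        rcases hδ with rfl | rfl <;> rcases hδ₂ with rfl | rfl <;> rcases hδ₃ with rfl | rfl <;> norm_num
      intro χ hχ
      have h0' := (Finset.sum_eq_zero_iff_of_nonneg fun χ _ => Complex.normSq_nonneg _).1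
        (show ∑ χ ∈ Tᶜ, Complex.normSq ((χ : G → ℂ) w) = 0 by linarith) χ (Finset.mem_compl.2 hχ)
      exact Complex.normSq_eq_zero.1 h0'
    have e4 : ((8 * (c₁ * c₂) : ℕ) : ℂ) ^ 2 * 4 = (Nat.card G : ℂ) *
        ∑ χ ∈ T, (χ : G → ℂ) (w ^ 2) ^ 2 / (χ : G → ℂ) 1 * conj ((χ : G → ℂ) w) := by
      calc ((8 * (c₁ * c₂) : ℕ) : ℂ) ^ 2 * 4 =
          ((8 * (c₁ * c₂) : ℕ) : ℂ) * (((4 : ℕ) : ℂ) * ((8 * (c₁ * c₂) : ℕ) : ℂ)) := by push_cast; ring
        _ = _ := by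
          rw [hsum, Finset.mul_sum, Finset.mul_sum]
          symm
          refine Finset.sum_subset_zero_on_sdiff (Finset.subset_univ T) (fun χ hχ => ?_) fun χ _ => ?_
          · rw [hvanish χ (Finset.mem_sdiff.1 hχ).2]; simp
          · have := hclv χ
            linear_combination (-(χ : G → ℂ) (w ^ 2) * conj ((χ : G → ℂ) w)) * this
    rw [hT, Finset.sum_insert hnot1, Finset.sum_insert (by simp [d12, d13]), Finset.sum_pair d23,
      hone, hone, hone, z1, z2, z3, w1, w2, w3, hxc, hxc, hxc] at e4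
    simp only [← hxdef, ← hx2def, ← hx3def, map_intCast, map_one, one_pow, neg_sq] at e4
    have hsq1 : ∀ {e : ℤ}, e = 1 ∨ e = -1 → (e : ℂ) ^ 2 = 1 := by
      rintro e (rfl | rfl) <;> norm_num
    rw [hsq1 hδ, hsq1 hδ₂, hsq1 hδ₃] at e4
    have hx0 : (x : ℂ) ≠ 0 := Nat.cast_ne_zero.2 (hpos χ₁).ne'
    have hx20 : (x₂ : ℂ) ≠ 0 := Nat.cast_ne_zero.2 (hpos χ₂).ne'
    have hx30 : (x₃ : ℂ) ≠ 0 := Nat.cast_ne_zero.2 (hpos χ₃).ne'
    push_cast at e4
    field_simp at e4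
    have hd2 : (δ₂ : ℂ) * δ₂ = 1 := by exact_mod_cast hunit hδ₂
    have hd3 : (δ₃ : ℂ) * δ₃ = 1 := by exact_mod_cast hunit hδ₃
    apply Int.cast_injective (α := ℂ)
    push_cast
    linear_combination ((δ₂ : ℂ) * δ₃) * e4 +
      ((Nat.card G : ℂ) * x * x₂ * δ₂) * hd3 + ((Nat.card G : ℂ) * x * x₃ * δ₃) * hd2
  · rintro d (rfl | rfl)
    · refine ⟨M, χ₁, δ, hM, hmem _ (Or.inl rfl), n1, rfl, hδ, fun v hv => ?_⟩
      obtain ⟨g, hg⟩ := isConj_iff.1 (S.one_class h2g S.z_ord hv)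
      rw [← hg, irr_class, z1]
    · refine ⟨M, χ₂, -δ₂, hM, hmem _ (Or.inr (Or.inl rfl)), n2, ?_, ?_, fun v hv => ?_⟩
      · rcases hδ₂ with rfl | rfl <;> simp [← hx2def]
      · rcases hδ₂ with rfl | rfl <;> simp
      · obtain ⟨g, hg⟩ := isConj_iff.1 (S.one_class h2g S.z_ord hv)
        rw [← hg, irr_class, z2]; push_cast; ring

end CfsgLib.SmallCent
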