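import Cfsg.Agent.Lib.CharTheory.Basic

/-!
# A lower bound for the degree of a character constant on the cosets of a four group
-/

set_option autoImplicit false
set_option linter.unusedSectionVars false
set_option linter.style.haveILetI false

namespace CfsgLib.SmallCent

open Cfsg CfsgLib.CharTheory
open scoped ComplexConjugate

universe u v

theorem sum_twist_nat {L : Type v} [Group L] [Fintype L] {n : ℕ}
    (ρ : Representation ℂ L (Fin n → ℂ)) (φ : L →* ℂˣ) :
    ∃ m : ℕ, ∑ l : L, (φ l : ℂ) * ρ.character l = (Fintype.card L : ℂ) * m := by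
  let σ : Representation ℂ L (Fin n → ℂ) :=
    { toFun := fun l => (φ l : ℂ) • ρ l
      map_one' := by simp
      map_mul' := fun a b => by rw [map_mul, map_mul, Units.val_mul, smul_mul_smul_comm] }
  haveI : Invertible (Nat.card L : ℂ) := invertibleOfNonzero (Nat.cast_ne_zero.2 Nat.card_pos.ne')
  refine ⟨Module.finrank ℂ (Representation.invariants σ), ?_⟩
  have h := Representation.card_inv_mul_sum_char_eq_finrank σ
  have e : ∀ l, σ.character l = (φ l : ℂ) * ρ.character l := fun l => by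
    show LinearMap.trace ℂ _ ((φ l : ℂ) • ρ l) = _
    rw [map_smul, smul_eq_mul]
    rfl
  simp only [e] at h
  rw [← h, ← Nat.card_eq_fintype_card, ← mul_assoc,
    mul_inv_cancel₀ (Nat.cast_ne_zero.2 Nat.card_pos.ne'), one_mul]

variable {G : Type u} [Group G] [Finite G]

theorem eight_le_degree {χ : G → ℂ} (hχ : IsCharacter G χ) {y : G} {p : ℕ} (hp : p.Prime)
    (hp2 : p ≠ 2) (hy : orderOf y = p) (V : Subgroup G) (hV : Nat.card V = 4)
    (hcomm : ∀ v ∈ V, Commute v y) {e : ℂ}
    (hval : ∀ v ∈ V, v ≠ 1 → ∀ i : ℕ, χ (v * y ^ i) = e)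
    (hsym : ∀ i : ℕ, χ (y ^ i)⁻¹ = χ (y ^ i)) (hne : χ y ≠ χ 1) :
    ∃ d : ℕ, χ 1 = d ∧ 8 ≤ d := by
  classical
  obtain ⟨n, ρ, hρ⟩ := hχ
  subst hρ
  haveI := Fintype.ofFinite G
  haveI := Fintype.ofFinite V
  haveI : Fintype (Subgroup.zpowers y) := Fintype.ofFinite _
  refine ⟨n, by rw [Representation.char_one, Module.finrank_fin_fun], ?_⟩
  set ζ : ℂ := Complex.exp (2 * Real.pi * Complex.I / p) with hζdef
  have hζ : IsPrimitiveRoot ζ p := Complex.isPrimitiveRoot_exp p hp.ne_zero
  set gY : Subgroup.zpowers y := ⟨y, Subgroup.mem_zpowers y⟩ with hgY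
  have hgen : ∀ x : Subgroup.zpowers y, x ∈ Subgroup.zpowers gY := by
    rintro ⟨x, i, rfl⟩
    exact ⟨i, Subtype.ext (by simp [hgY])⟩
  have hgo : orderOf gY = p := by rw [hgY, Subgroup.orderOf_mk, hy]
  set u : ℂˣ := Units.mk0 ζ (hζ.ne_zero hp.ne_zero) with hu
  have hup : ∀ j : ℕ, orderOf (u ^ j) ∣ orderOf gY := fun j => by
    rw [hgo]
    refine orderOf_dvd_of_pow_eq_one (Units.ext ?_)
    rw [← pow_mul, Units.val_pow_eq_pow_val, Units.val_one, hu, Units.val_mk0, mul_comm, pow_mul,
      hζ.pow_eq_one, one_pow]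
  let ψ : ℕ → (Subgroup.zpowers y →* ℂˣ) := fun j => monoidHomOfForallMemZpowers hgen (hup j)
  have hψ : ∀ j i : ℕ, ((ψ j (gY ^ i) : ℂˣ) : ℂ) = (ζ ^ i) ^ j := fun j i => by
    rw [map_pow, monoidHomOfForallMemZpowers_apply_gen, Units.val_pow_eq_pow_val,
      Units.val_pow_eq_pow_val, hu, Units.val_mk0, pow_right_comm]
  have hsum : ∀ f : Subgroup.zpowers y → ℂ, ∑ g, f g = ∑ i ∈ Finset.range p, f (gY ^ i) := by
    intro f
    rw [← Fin.sum_univ_eq_sum_range (fun i => f (gY ^ i)) p]
    symm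
    refine Fintype.sum_bijective (fun i : Fin p => gY ^ (i : ℕ)) ⟨fun a b e => Fin.ext ?_, fun g => ?_⟩
      _ _ fun i => rfl
    · exact pow_injOn_Iio_orderOf (by rw [hgo]; exact a.2) (by rw [hgo]; exact b.2) e
    · obtain ⟨i, hi⟩ := (IsOfFinOrder.mem_powers_iff_mem_zpowers (isOfFinOrder_of_finite gY)).2 (hgen g)
      exact ⟨⟨i % p, Nat.mod_lt _ hp.pos⟩, by
        show gY ^ (i % p) = g
        rw [← hgo, pow_mod_orderOf]; exact hi⟩
  set m : ℕ → ℂ := fun j => ∑ i ∈ Finset.range p, (ζ ^ i) ^ j * ρ.character (y ^ i) with hm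
  have hgeom : ∀ i : ℕ, ∑ j ∈ Finset.range p, (ζ ^ i) ^ j = if p ∣ i then (p : ℂ) else 0 := by
    intro i
    split_ifs with h
    · rw [(hζ.pow_eq_one_iff_dvd i).2 h]; simp
    · rw [geom_sum_eq (fun e' => h ((hζ.pow_eq_one_iff_dvd i).1 e')), ← pow_mul, mul_comm, pow_mul,
        hζ.pow_eq_one, one_pow, sub_self, zero_div]
  have hnat : ∀ j, ∃ M : ℕ, m j = (p : ℂ) * M := by
    intro j
    obtain ⟨M, hM⟩ := sum_twist_nat (ρ.comp (Subgroup.zpowers y).subtype) (ψ j)
    refine ⟨M, ?_⟩
    rw [hsum, Fintype.card_eq_nat_card, Nat.card_zpowers, hy] at hM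
    rw [← hM, hm]
    refine Finset.sum_congr rfl fun i _ => ?_
    rw [hψ]
    rfl
  choose M hM using hnat
  let θ : V × Subgroup.zpowers y →* G := MonoidHom.noncommCoprod V.subtype (Subgroup.zpowers y).subtype
    (fun a b => by
      obtain ⟨_, i, rfl⟩ := b
      exact (hcomm a a.2).zpow_right i)
  have hθ : ∀ (a : V) (b : Subgroup.zpowers y), θ (a, b) = (a : G) * b := fun a b => rfl
  have hfour : ∀ j, 0 < j → j < p → 4 ∣ M j := by
    intro j hj0 hjp
    obtain ⟨N, hN⟩ := sum_twist_nat (ρ.comp θ) ((ψ j).comp (MonoidHom.snd V (Subgroup.zpowers y)))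
    refine ⟨N, ?_⟩
    rw [Fintype.card_prod, Fintype.card_eq_nat_card, Fintype.card_eq_nat_card (α := Subgroup.zpowers y),
      hV, Nat.card_zpowers, hy, Fintype.sum_prod_type_right, hsum] at hN
    have hin : ∀ i ∈ Finset.range p, ∑ a : V,
        (((ψ j).comp (MonoidHom.snd V (Subgroup.zpowers y))) (a, gY ^ i) : ℂ) *
          Representation.character (ρ.comp θ) (a, gY ^ i) =
        (ζ ^ i) ^ j * ρ.character (y ^ i) + 3 * e * (ζ ^ i) ^ j := by
      intro i _
      have e1 : ∀ a : V, Representation.character (ρ.comp θ) (a, gY ^ i) =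
          if a = 1 then ρ.character (y ^ i) else e := by
        intro a
        show ρ.character (θ (a, gY ^ i)) = _
        rw [hθ, Subgroup.coe_pow]
        split_ifs with h
        · rw [h, OneMemClass.coe_one, one_mul]
        · exact hval a a.2 (fun e' => h (Subtype.ext e')) i
      simp only [MonoidHom.comp_apply, MonoidHom.coe_snd, hψ, e1]
      rw [← Finset.mul_sum, Finset.sum_ite, Finset.filter_eq' Finset.univ (1 : V),
        if_pos (Finset.mem_univ _), Finset.sum_singleton, Finset.sum_const,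
        Finset.filter_ne', Finset.card_erase_of_mem (Finset.mem_univ _), Finset.card_univ,
        Fintype.card_eq_nat_card, hV, nsmul_eq_mul]
      push_cast
      ring
    rw [Finset.sum_congr rfl hin, Finset.sum_add_distrib, ← Finset.mul_sum] at hN
    have h0 : ∑ i ∈ Finset.range p, (ζ ^ i) ^ j = 0 := by
      rw [Finset.sum_congr rfl fun i _ => pow_right_comm ζ i j, hgeom,
        if_neg (fun h => Nat.not_dvd_of_pos_of_lt hj0 hjp h)]
    rw [h0, mul_zero, add_zero, show ∑ i ∈ Finset.range p, (ζ ^ i) ^ j * ρ.character (y ^ i) = m j from rfl,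
      hM] at hN
    have hp0 : (p : ℂ) ≠ 0 := Nat.cast_ne_zero.2 hp.ne_zero
    have : (p : ℂ) * (M j : ℂ) = (p : ℂ) * ((4 * N : ℕ) : ℂ) := by rw [hN]; push_cast; ring
    exact_mod_cast mul_left_cancel₀ hp0 this
  have hsumM : ∑ j ∈ Finset.range p, M j = n := by
    have h1 : ∑ j ∈ Finset.range p, m j = (p : ℂ) * n := by
      rw [hm, Finset.sum_comm, Finset.sum_congr rfl fun i _ => (Finset.sum_mul _ _ _).symm,
        Finset.sum_eq_single_of_mem 0 (Finset.mem_range.2 hp.pos) fun i hi hi0 => by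
          rw [hgeom, if_neg (fun h => Nat.not_dvd_of_pos_of_lt (Nat.pos_of_ne_zero hi0)
            (Finset.mem_range.1 hi) h), zero_mul],
        hgeom, if_pos (dvd_zero p), pow_zero, Representation.char_one, Module.finrank_fin_fun]
    rw [Finset.sum_congr rfl fun j _ => hM j, ← Finset.mul_sum] at h1
    exact_mod_cast mul_left_cancel₀ (Nat.cast_ne_zero.2 hp.ne_zero) h1
  have hsymM : ∀ j, j ≤ p → M (p - j) = M j := by
    intro j hj
    have h1 : conj (m j) = m (p - j) := by
      rw [hm, map_sum]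
      refine Finset.sum_congr rfl fun i _ => ?_
      rw [map_mul, map_pow, map_pow, conj_char ρ, hsym, hζdef,
        show conj (Complex.exp (2 * Real.pi * Complex.I / p)) = (Complex.exp (2 * Real.pi * Complex.I / p))⁻¹ by
          rw [← Complex.exp_conj, ← Complex.exp_neg]
          congr 1
          simp [neg_div, map_ofNat], ← hζdef]
      congr 1
      have h2 : (ζ ^ i) ^ j * (ζ ^ i) ^ (p - j) = 1 := by
        rw [← pow_add, Nat.add_sub_cancel' hj, ← pow_mul, mul_comm, pow_mul, hζ.pow_eq_one, one_pow]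
      rw [inv_pow, inv_pow]
      exact inv_eq_of_mul_eq_one_right h2
    rw [hM, hM, map_mul, map_natCast, map_natCast] at h1
    exact_mod_cast (mul_left_cancel₀ (Nat.cast_ne_zero.2 hp.ne_zero) h1).symm
  obtain ⟨j, hj0, hjp, hjM⟩ : ∃ j, 0 < j ∧ j < p ∧ M j ≠ 0 := by
    by_contra hc
    push Not at hc
    refine hne ?_
    have hzero : ∀ j ∈ Finset.range p, j ≠ 0 → m j = 0 := fun j hj h0 => by
      rw [hM, hc j (Nat.pos_of_ne_zero h0) (Finset.mem_range.1 hj), Nat.cast_zero, mul_zero]
    have hM0 : M 0 = n := by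
      rw [← hsumM, Finset.sum_eq_single_of_mem 0 (Finset.mem_range.2 hp.pos)]
      exact fun b hb hb0 => hc b (Nat.pos_of_ne_zero hb0) (Finset.mem_range.1 hb)
    have h1 : ∑ j ∈ Finset.range p, ζ ^ ((p - 1) * j) * m j = (p : ℂ) * ρ.character y := by
      rw [hm]
      simp only [Finset.mul_sum]
      rw [Finset.sum_comm]
      have e1 : ∀ i ∈ Finset.range p, ∑ j ∈ Finset.range p,
          ζ ^ ((p - 1) * j) * ((ζ ^ i) ^ j * ρ.character (y ^ i)) =
          (if p ∣ i + (p - 1) then (p : ℂ) else 0) * ρ.character (y ^ i) := by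
        intro i _
        rw [← hgeom, Finset.sum_mul]
        refine Finset.sum_congr rfl fun j _ => ?_
        rw [← mul_assoc, ← pow_mul, ← pow_mul, ← pow_add]
        congr 2
        ring
      rw [Finset.sum_congr rfl e1, Finset.sum_eq_single_of_mem 1 (Finset.mem_range.2 hp.one_lt)]
      · rw [if_pos (by rw [Nat.add_sub_cancel' hp.pos]), pow_one]
      · intro i hi hi1
        rw [if_neg, zero_mul]
        intro h
        have := Finset.mem_range.1 hi
        have := hp.two_le
        rcases Nat.eq_zero_or_pos i with rfl | hip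
        · exact Nat.not_dvd_of_pos_of_lt (by omega) (by omega) ((zero_add (p - 1)) ▸ h)
        · have h2 : p ∣ i - 1 := by
            have := Nat.dvd_sub h (dvd_refl p)
            rwa [show i + (p - 1) - p = i - 1 by omega] at this
          exact Nat.not_dvd_of_pos_of_lt (by omega) (by omega) h2
    rw [Finset.sum_eq_single_of_mem 0 (Finset.mem_range.2 hp.pos) (fun b hb hb0 => by
      rw [hzero b hb hb0, mul_zero]), Nat.mul_zero, pow_zero, one_mul, hM, hM0] at h1
    rw [← mul_left_cancel₀ (Nat.cast_ne_zero.2 hp.ne_zero) h1, Representation.char_one,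
      Module.finrank_fin_fun]
  have hpodd : Odd p := hp.odd_of_ne_two hp2
  have hne' : p - j ≠ j := fun h => by obtain ⟨r, hr⟩ := hpodd; omega
  have h8 : M j + M (p - j) ≤ n := by
    rw [← hsumM, ← Finset.sum_pair hne'.symm]
    exact Finset.sum_le_sum_of_subset (by
      intro a ha
      simp only [Finset.mem_insert, Finset.mem_singleton] at ha
      rcases ha with rfl | rfl <;> rw [Finset.mem_range] <;> omega)
  rw [hsymM j hjp.le] at h8
  obtain ⟨r, hr⟩ := hfour j hj0 hjp
  omega

end CfsgLib.SmallCent
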