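import Cfsg.Agent.Lib.SmallCent.Klein
import Cfsg.Agent.Lib.SmallOrder

/-!
# The index of the centraliser of an element of the core
-/

set_option autoImplicit false
set_option linter.unusedSectionVars false
set_option linter.style.haveILetI false

namespace CfsgLib.SmallCent

open Cfsg CfsgLib.Blocks.Dihedral CfsgLib.CharTheory

universe u

variable {G : Type u} [Group G] [Finite G]
variable {P : Sylow 2 G} {w τ : G} {K : Subgroup G}

namespace Setup

theorem fixed_card [IsSimpleGroup G] (S : Setup P w τ K) (hG : ¬ IsPGroup 2 G) (X : Subgroup G) {I : ℕ}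
    (hX : Nat.card X = 4 * (Nat.card (fixK K τ) * Nat.card (fixK K (w * τ))) * I)
    (hinv : Nat.card {v : X // orderOf v = 2} = I) {p : G} (hp : orderOf p = 2) :
    Nat.card (MulAction.fixedBy (G ⧸ X) p) = 2 := by
  classical
  have hconj : ∀ v : {v : X // orderOf v = 2}, ∃ g : G, g⁻¹ * p * g = ((v : X) : G) := fun v => by
    obtain ⟨g, hg⟩ := isConj_iff.1 (S.one_class hG hp (b := ((v : X) : G)) (by rw [Subgroup.orderOf_coe, v.2]))
    exact ⟨g⁻¹, by rw [inv_inv]; exact hg⟩
  choose gv hgv using hconj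
  have hA : ∀ g : G, (g : G ⧸ X) ∈ MulAction.fixedBy (G ⧸ X) p ↔ g⁻¹ * p * g ∈ X := by
    intro g
    rw [MulAction.mem_fixedBy, MulAction.Quotient.smul_coe, smul_eq_mul, eq_comm, QuotientGroup.eq,
      mul_assoc]
  have h1 : Nat.card {g : G // g⁻¹ * p * g ∈ X} =
      Nat.card (Subgroup.centralizer ({p} : Set G)) * Nat.card {v : X // orderOf v = 2} := by
    rw [← Nat.card_prod]
    symm
    have hmem : ∀ (c : Subgroup.centralizer ({p} : Set G)) (v : {v : X // orderOf v = 2}),
        ((c : G) * gv v)⁻¹ * p * ((c : G) * gv v) = ((v : X) : G) := by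
      intro c v
      have hc : Commute (c : G) p := Subgroup.mem_centralizer_singleton_iff.1 c.2
      rw [← hgv v, mul_inv_rev, show (gv v)⁻¹ * (c : G)⁻¹ * p * ((c : G) * gv v) =
        (gv v)⁻¹ * ((c : G)⁻¹ * (p * c)) * gv v by group, ← hc.eq, inv_mul_cancel_left]
    refine Nat.card_eq_of_bijective
      (fun x : Subgroup.centralizer ({p} : Set G) × {v : X // orderOf v = 2} =>
        (⟨(x.1 : G) * gv x.2, by rw [hmem]; exact (x.2 : X).2⟩ : {g : G // g⁻¹ * p * g ∈ X}))
      ⟨fun x y e => ?_, fun g => ?_⟩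
    · have e' : (x.1 : G) * gv x.2 = (y.1 : G) * gv y.2 := congrArg Subtype.val e
      have hv : x.2 = y.2 := Subtype.ext (Subtype.ext (by rw [← hmem x.1 x.2, ← hmem y.1 y.2, e']))
      exact Prod.ext (Subtype.ext (by rw [hv] at e'; exact mul_right_cancel e')) hv
    · have ho : orderOf (⟨g.1⁻¹ * p * g.1, g.2⟩ : X) = 2 := by
        rw [Subgroup.orderOf_mk]
        rw [show g.1⁻¹ * p * g.1 = MulAut.conj g.1⁻¹ p by rw [MulAut.conj_apply, inv_inv], MulEquiv.orderOf_eq, hp]
      set v : {v : X // orderOf v = 2} := ⟨⟨g.1⁻¹ * p * g.1, g.2⟩, ho⟩ with hv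
      have hc : g.1 * (gv v)⁻¹ ∈ Subgroup.centralizer ({p} : Set G) := by
        refine Subgroup.mem_centralizer_singleton_iff.2 ?_
        have e : (gv v)⁻¹ * p * gv v = g.1⁻¹ * p * g.1 := hgv v
        calc g.1 * (gv v)⁻¹ * p = g.1 * ((gv v)⁻¹ * p * gv v) * (gv v)⁻¹ := by group
          _ = p * (g.1 * (gv v)⁻¹) := by rw [e]; group
      exact ⟨(⟨_, hc⟩, v), Subtype.ext (inv_mul_cancel_right g.1 (gv v))⟩
  have hCp : Nat.card (Subgroup.centralizer ({p} : Set G)) =
      8 * (Nat.card (fixK K τ) * Nat.card (fixK K (w * τ))) := by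
    have hzc := card_isConj_mul_card_centralizer (w ^ 2)
    have hpc := card_isConj_mul_card_centralizer p
    have he : Nat.card {x : G // IsConj p x} = Nat.card {x : G // IsConj (w ^ 2) x} :=
      Nat.card_congr (Equiv.subtypeEquivRight fun x =>
        ⟨fun h => (S.one_class hG S.z_ord hp).trans h, fun h => (S.one_class hG hp S.z_ord).trans h⟩)
    rw [he, ← hzc] at hpc
    haveI : Nonempty {x : G // IsConj (w ^ 2) x} := ⟨⟨_, IsConj.refl _⟩⟩
    rw [Nat.eq_of_mul_eq_mul_left Nat.card_pos hpc, S.card_cent_z]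
  have h2 : Nat.card {g : G // g⁻¹ * p * g ∈ X} = Nat.card X * Nat.card (MulAction.fixedBy (G ⧸ X) p) := by
    rw [← Nat.card_prod]
    exact Nat.card_congr ((Equiv.subtypeEquivRight fun g => (hA g).symm).trans
      (QuotientGroup.preimageMkEquivSubgroupProdSet X (MulAction.fixedBy (G ⧸ X) p)))
  rw [h1, hCp, hinv, hX] at h2
  have hpos : 0 < 4 * (Nat.card (fixK K τ) * Nat.card (fixK K (w * τ))) * I := by rw [← hX]; exact Nat.card_pos
  exact (Nat.eq_of_mul_eq_mul_left hpos (by rw [← h2]; ring)).symm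

theorem index_mod [IsSimpleGroup G] (S : Setup P w τ K) (hG : ¬ IsPGroup 2 G) {y : G}
    (hy : y ∈ fixK K τ) (hy1 : y ≠ 1) {I : ℕ}
    (hX : Nat.card (Subgroup.centralizer ({y} : Set G)) =
      4 * (Nat.card (fixK K τ) * Nat.card (fixK K (w * τ))) * I)
    (hinv : Nat.card {v : Subgroup.centralizer ({y} : Set G) // orderOf v = 2} = I) :
    (Subgroup.centralizer ({y} : Set G)).index % 8 = 6 := by
  classical
  set X := Subgroup.centralizer ({y} : Set G) with hXdef
  haveI := Fintype.ofFinite (G ⧸ X)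
  haveI := Fintype.ofFinite (P : Subgroup G)
  haveI := Fintype.ofFinite (Quotient (MulAction.orbitRel (P : Subgroup G) (G ⧸ X)))
  have hb := MulAction.sum_card_fixedBy_eq_card_orbits_mul_card_group (G := (P : Subgroup G)) (X := G ⧸ X)
  rw [← Nat.card_eq_fintype_card (α := (P : Subgroup G)), S.pair.toDih.card] at hb
  set f : ↥(P : Subgroup G) → ℕ := fun g => Fintype.card (MulAction.fixedBy (G ⧸ X) g) with hf
  have hfG : ∀ g : (P : Subgroup G), f g = Nat.card (MulAction.fixedBy (G ⧸ X) (g : G)) := by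
    intro g
    rw [hf]
    simp only
    rw [← Nat.card_eq_fintype_card]
    rfl
  set w₁ : (P : Subgroup G) := ⟨w, S.pair.mem⟩ with hw₁
  have h1 : f 1 = X.index := by
    rw [hfG, OneMemClass.coe_one, MulAction.fixedBy_one_eq_univ, Nat.card_univ, Subgroup.index_eq_card]
  have hzero : ∀ g : G, IsConj w g → Nat.card (MulAction.fixedBy (G ⧸ X) g) = 0 := by
    intro g hg
    obtain ⟨a, rfl⟩ := isConj_iff.1 hg
    rw [Nat.card_eq_zero]
    left
    refine ⟨fun ⟨q, hq⟩ => ?_⟩
    induction q using QuotientGroup.induction_on with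
    | H b =>
      rw [MulAction.mem_fixedBy, MulAction.Quotient.smul_coe, smul_eq_mul, eq_comm, QuotientGroup.eq] at hq
      refine S.no_conj_w (mem_fixK.1 hy).1 hy1 (b⁻¹ * a) ?_
      have h := Subgroup.mem_centralizer_singleton_iff.1 hq
      rwa [show b⁻¹ * a * w * (b⁻¹ * a)⁻¹ = b⁻¹ * (a * w * a⁻¹ * b) by group]
  have hw0 : f w₁ = 0 := by rw [hfG]; exact hzero _ (IsConj.refl w)
  have hw3 : f w₁⁻¹ = 0 := by
    rw [hfG]
    exact hzero _ (S.pair.toDih.conj_inv (Subgroup.mem_zpowers w))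
  have htwo : ∀ g : (P : Subgroup G), g ∉ ({1, w₁, w₁⁻¹} : Finset (P : Subgroup G)) → f g = 2 := by
    intro g hg
    simp only [Finset.mem_insert, Finset.mem_singleton, not_or] at hg
    rw [hfG]
    refine S.fixed_card hG X hX hinv (orderOf_eq_prime ?_ fun e => hg.1 (Subtype.ext e))
    rw [sq]
    by_cases hm : (g : G) ∈ Subgroup.zpowers w
    · obtain ⟨m, hm4, e⟩ := S.pair.exists_pow hm
      interval_cases m
      · exact absurd (Subtype.ext (by simpa using e)) hg.1
      · exact absurd (Subtype.ext (show (g : G) = w by simpa using e)) hg.2.1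
      · rw [e]; exact S.z_ne.2
      · exact absurd (Subtype.ext (by rw [e, ← S.w3_inv]; rfl)) hg.2.2
    · exact (S.pair.toDih.out g.2 hm).1
  have hne1 : (1 : (P : Subgroup G)) ∉ ({w₁, w₁⁻¹} : Finset (P : Subgroup G)) := by
    simp only [Finset.mem_insert, Finset.mem_singleton, not_or]
    have hw : w ≠ 1 := fun e => by have := S.hw; rw [e, orderOf_one] at this; omega
    exact ⟨fun e => hw (congrArg Subtype.val e).symm, fun e => hw (by
      have := congrArg Subtype.val e
      simpa [hw₁] using this.symm)⟩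
  have hne2 : w₁ ≠ w₁⁻¹ := fun e => S.z_ne.1 (by
    rw [sq]
    exact mul_eq_one_iff_eq_inv.2 (congrArg Subtype.val e))
  have hsum : ∑ g, f g = X.index + 10 := by
    rw [← Finset.sum_add_sum_compl ({1, w₁, w₁⁻¹} : Finset (P : Subgroup G)),
      Finset.sum_insert hne1, Finset.sum_pair hne2, h1, hw0, hw3,
      Finset.sum_congr rfl (fun g hg => htwo g (Finset.mem_compl.1 hg)), Finset.sum_const, Finset.card_compl,
      Finset.card_insert_of_notMem hne1, Finset.card_pair hne2, ← Nat.card_eq_fintype_card,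
      S.pair.toDih.card]
    rfl
  have hb' : ∑ g, f g = _ := hb
  rw [hsum] at hb'
  omega

/-- The extended centraliser of `y`. -/
def extCent (y : G) : Subgroup G where
  carrier := {g | g * y * g⁻¹ = y ∨ g * y * g⁻¹ = y⁻¹}
  one_mem' := Or.inl (by group)
  mul_mem' := fun {a b} ha hb => by
    have e : a * b * y * (a * b)⁻¹ = a * (b * y * b⁻¹) * a⁻¹ := by group
    show _ ∨ _
    rw [e]
    rcases hb with hb | hb <;> rw [hb]
    · exact ha
    · rw [show a * y⁻¹ * a⁻¹ = (a * y * a⁻¹)⁻¹ by group]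
      rcases ha with ha | ha <;> rw [ha]
      · exact Or.inr rfl
      · exact Or.inl (inv_inv y)
  inv_mem' := fun {a} ha => by
    show _ ∨ _
    rcases ha with ha | ha
    · refine Or.inl ?_
      nth_rw 1 [← ha]
      group
    · refine Or.inr ?_
      rw [inv_inv]
      have : (a * y * a⁻¹)⁻¹ = y := by rw [ha, inv_inv]
      nth_rw 1 [← this]
      group

theorem extCent_index (S : Setup P w τ K) {y : G} (hy : y ∈ fixK K τ) (hy1 : y ≠ 1) :
    (Subgroup.centralizer ({y} : Set G)).index = 2 * (extCent y).index := by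
  obtain ⟨hyK, hyt⟩ := mem_fixK.1 hy
  set X := Subgroup.centralizer ({y} : Set G) with hXdef
  have hle : X ≤ extCent y := fun g hg =>
    Or.inl (mul_inv_eq_iff_eq_mul.2 (Subgroup.mem_centralizer_singleton_iff.1 hg))
  have hb : w * τ * y * (w * τ)⁻¹ = y⁻¹ := by
    rw [S.conj_wt hyK, ← hyt.eq, mul_inv_cancel_right]
  have hcard : Nat.card (extCent y) = 2 * Nat.card X := by
    rw [← Nat.card_fin 2, ← Nat.card_prod]
    symm
    refine Nat.card_eq_of_bijective (fun p : Fin 2 × X => (⟨(p.2 : G) * (w * τ) ^ (p.1 : ℕ),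
      mul_mem (hle p.2.2) (pow_mem (Or.inr hb) _)⟩ : extCent y)) ⟨fun p q e => ?_, fun g => ?_⟩
    · have e' : (p.2 : G) * (w * τ) ^ (p.1 : ℕ) = (q.2 : G) * (w * τ) ^ (q.1 : ℕ) := congrArg Subtype.val e
      have hnot : w * τ ∉ X := fun h => S.inv_ne hyK hy1 (by
        rw [← hb, Subgroup.mem_centralizer_singleton_iff.1 h, mul_inv_cancel_right])
      have hpq : p.1 = q.1 := by
        obtain ⟨⟨a, ha⟩, x⟩ := p
        obtain ⟨⟨b, hb'⟩, x'⟩ := q
        interval_cases a <;> interval_cases b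
        · rfl
        · refine absurd ?_ hnot
          simp only [pow_zero, mul_one, pow_one] at e'
          have : w * τ = (x' : G)⁻¹ * x := by rw [e', inv_mul_cancel_left]
          rw [this]; exact mul_mem (inv_mem x'.2) x.2
        · refine absurd ?_ hnot
          simp only [pow_zero, mul_one, pow_one] at e'
          have : w * τ = (x : G)⁻¹ * x' := by rw [← e', inv_mul_cancel_left]
          rw [this]; exact mul_mem (inv_mem x.2) x'.2
        · rfl
      rw [hpq] at e'
      exact Prod.ext hpq (Subtype.ext (mul_right_cancel e'))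
    · rcases g.2 with h | h
      · refine ⟨(0, ⟨g, Subgroup.mem_centralizer_singleton_iff.2 (mul_inv_eq_iff_eq_mul.1 h)⟩), Subtype.ext ?_⟩
        simp
      · refine ⟨(1, ⟨(g : G) * (w * τ), Subgroup.mem_centralizer_singleton_iff.2 (mul_inv_eq_iff_eq_mul.1 ?_)⟩),
          Subtype.ext ?_⟩
        · rw [show (g : G) * (w * τ) * y * ((g : G) * (w * τ))⁻¹ = g * (w * τ * y * (w * τ)⁻¹) * (g : G)⁻¹ by group,
            hb, show (g : G) * y⁻¹ * (g : G)⁻¹ = ((g : G) * y * (g : G)⁻¹)⁻¹ by group, h, inv_inv]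
        · show (g : G) * (w * τ) * (w * τ) ^ ((1 : Fin 2) : ℕ) = g
          rw [show ((1 : Fin 2) : ℕ) = 1 from rfl, pow_one, mul_assoc, S.swap.tt, mul_one]
  have h1 := X.card_mul_index
  rw [← (extCent y).card_mul_index, hcard, mul_comm 2, mul_assoc] at h1
  exact Nat.eq_of_mul_eq_mul_left Nat.card_pos h1

end Setup

theorem eleven_absurd [IsSimpleGroup G] {H : Subgroup G} (hH : H.index = 11) {g z : G}
    (hg : orderOf g = 11) (hz : orderOf z = 2) (hc : Commute g z) : False := by
  classical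
  haveI : Fact (Nat.Prime 11) := ⟨by norm_num⟩
  haveI : Fact (Nat.Prime 2) := ⟨Nat.prime_two⟩
  haveI := Fintype.ofFinite (G ⧸ H)
  let φ := MulAction.toPermHom G (G ⧸ H)
  have hker : φ.ker = ⊥ := by
    refine (Subgroup.Normal.eq_bot_or_eq_top (inferInstance : φ.ker.Normal)).resolve_right fun h => ?_
    rw [← Subgroup.normalCore_eq_ker] at h
    have : H = ⊤ := top_le_iff.1 (h.ge.trans H.normalCore_le)
    rw [this, Subgroup.index_top] at hH
    omega
  have hcard : Fintype.card (G ⧸ H) = 11 := by rw [← Nat.card_eq_fintype_card, ← Subgroup.index_eq_card, hH]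
  have hz1 : φ z ^ 2 ^ 1 = 1 := by rw [← map_pow, pow_one, ← hz, pow_orderOf_eq_one, map_one]
  obtain ⟨q, hq⟩ := Equiv.Perm.exists_fixed_point_of_prime (p := 2) (by rw [hcard]; norm_num) hz1
  obtain ⟨q', hq'⟩ : ∃ q', g • q' ≠ q' := by
    by_contra hno
    push Not at hno
    have : g ∈ φ.ker := MonoidHom.mem_ker.2 (Equiv.ext hno)
    rw [hker, Subgroup.mem_bot] at this
    rw [this, orderOf_one] at hg
    omega
  have horb : MulAction.orbit (Subgroup.zpowers g) q' = Set.univ := by
    have h1 : Nat.card (MulAction.orbit (Subgroup.zpowers g) q') ∣ 11 := by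
      rw [← hg, ← Nat.card_zpowers, Nat.card_coe_set_eq, ← MulAction.index_stabilizer]
      exact Subgroup.index_dvd_card _
    rcases (Nat.dvd_prime (by norm_num : Nat.Prime 11)).1 h1 with h2 | h2
    · exfalso
      obtain ⟨a, ha⟩ := (Nat.card_eq_one_iff_exists.1 h2)
      have e1 := ha ⟨q', MulAction.mem_orbit_self q'⟩
      have e2 := ha ⟨(⟨g, Subgroup.mem_zpowers g⟩ : Subgroup.zpowers g) • q', MulAction.mem_orbit _ _⟩
      exact hq' (congrArg Subtype.val (e2.trans e1.symm))
    · refine Set.eq_univ_of_forall fun a => ?_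
      by_contra ha
      have h3 : (MulAction.orbit (Subgroup.zpowers g) q').ncard < (Set.univ : Set (G ⧸ H)).ncard :=
        Set.ncard_lt_ncard ((Set.ssubset_univ_iff).2 fun e => ha (e ▸ Set.mem_univ a))
      rw [Set.ncard_univ, Nat.card_eq_fintype_card (α := G ⧸ H), hcard, ← Nat.card_coe_set_eq, h2] at h3
      omega
  have hzall : z ∈ φ.ker := by
    refine MonoidHom.mem_ker.2 (Equiv.ext fun a => ?_)
    have hq0 : q ∈ MulAction.orbit (Subgroup.zpowers g) q' := horb ▸ Set.mem_univ q
    have ha : a ∈ MulAction.orbit (Subgroup.zpowers g) q := by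
      rw [MulAction.orbit_eq_iff.2 hq0, horb]; trivial
    obtain ⟨⟨_, i, rfl⟩, rfl⟩ := ha
    show z • (g ^ i • q) = g ^ i • q
    rw [smul_smul, ← (hc.zpow_left i).eq, mul_smul]
    exact congrArg (g ^ i • ·) hq
  rw [hker, Subgroup.mem_bot] at hzall
  rw [hzall, orderOf_one] at hz
  omega

end CfsgLib.SmallCent
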