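import Cfsg.Agent.Lib.SmallCent.Chars
import Cfsg.Agent.Lib.Blocks.KleinSylow
import Cfsg.Agent.S0948

/-!
# The centraliser of an element of the core fixed by a reflection
-/

set_option autoImplicit false
set_option linter.unusedSectionVars false
set_option linter.style.haveILetI false

namespace CfsgLib.SmallCent

open Cfsg CfsgLib.Blocks CfsgLib.Blocks.Dihedral CfsgLib.CharTheory
open scoped ComplexConjugate

universe u

theorem klein_sum_bound {u v I x₁ x₂ x₃ : ℕ} {ε : ℤ} (hε : ε = 1 ∨ ε = -1) (hu : 0 < u)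
    (h1 : 0 < x₁) (h2 : 0 < x₂) (h3 : 0 < x₃) (d1 : (4 : ℤ) ∣ (x₁ : ℤ) - 1) (d2 : (4 : ℤ) ∣ (x₂ : ℤ) - ε)
    (d3 : (4 : ℤ) ∣ (x₃ : ℤ) + 1) (hrel : 1 + (x₁ : ℤ) + ε * x₂ - x₃ = 0)
    (h : ((4 * u * I : ℕ) : ℚ) * (1 + (1 : ℚ) / x₁ + (ε : ℚ) / x₂ + (-1 : ℚ) / x₃) =
      8 * ((4 * u : ℕ) : ℚ) * (v : ℚ) ^ 2) : 3 * (v : ℤ) ^ 2 ≤ I := by
  have q1 : (0 : ℚ) < x₁ := by exact_mod_cast h1
  have q2 : (0 : ℚ) < x₂ := by exact_mod_cast h2
  have q3 : (0 : ℚ) < x₃ := by exact_mod_cast h3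
  set S : ℚ := 1 + (1 : ℚ) / x₁ + (ε : ℚ) / x₂ + (-1 : ℚ) / x₃ with hS
  have a1 : (1 : ℚ) / x₁ ≤ 1 := by rw [div_le_one q1]; exact_mod_cast h1
  have a3 : (-1 : ℚ) / x₃ ≤ 0 := div_nonpos_of_nonpos_of_nonneg (by norm_num) q3.le
  have hS8 : S ≤ 8 / 3 := by
    rcases hε with rfl | rfl
    · by_cases h5 : 2 ≤ x₁ ∨ 2 ≤ x₂
      · push_cast at hS
        rcases h5 with h5 | h5
        · have b1 : (1 : ℚ) / x₁ ≤ 1 / 2 := one_div_le_one_div_of_le (by norm_num) (by exact_mod_cast h5)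
          have a2 : (1 : ℚ) / x₂ ≤ 1 := by rw [div_le_one q2]; exact_mod_cast h2
          linarith
        · have b2 : (1 : ℚ) / x₂ ≤ 1 / 2 := one_div_le_one_div_of_le (by norm_num) (by exact_mod_cast h5)
          linarith
      · push Not at h5
        have e1 : x₁ = 1 := by omega
        have e2 : x₂ = 1 := by omega
        have e3 : x₃ = 3 := by subst e1 e2; omega
        subst e1 e2 e3
        rw [hS]; norm_num
    · push_cast at hS
      have a2 : (-1 : ℚ) / x₂ ≤ 0 := div_nonpos_of_nonpos_of_nonneg (by norm_num) q2.le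
      linarith
  have hI : (0 : ℚ) ≤ ((4 * u * I : ℕ) : ℚ) := Nat.cast_nonneg _
  have h8 := mul_le_mul_of_nonneg_left hS8 hI
  rw [h] at h8
  have key : (3 * ((v : ℕ) : ℚ) ^ 2) ≤ (I : ℚ) := by
    push_cast at h8
    have hu' : (0 : ℚ) < u := by exact_mod_cast hu
    refine le_of_mul_le_mul_left ?_ hu'
    linarith
  exact_mod_cast key

variable {G : Type u} [Group G] [Finite G]
variable {P : Sylow 2 G} {w τ : G} {K : Subgroup G}

namespace Setup

theorem inv_ne (S : Setup P w τ K) {y : G} (hy : y ∈ K) (hy1 : y ≠ 1) : y⁻¹ ≠ y := fun e =>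
  hy1 (eq_one_of_sq S.core.odd hy (mul_eq_one_iff_eq_inv.2 e.symm))

theorem p_cent (S : Setup P w τ K) {y : G} (hy : y ∈ fixK K τ) (hy1 : y ≠ 1) {p : G}
    (hp : p ∈ (P : Subgroup G)) (hc : Commute p y) : p ∈ four P τ := by
  obtain ⟨hyK, hyt⟩ := mem_fixK.1 hy
  have hz : Commute (w ^ 2) y := (S.core.comm y hyK).symm
  have hbad : ∀ m < 2 * 2, Commute (w ^ m) y → m = 0 ∨ m = 2 := by
    intro m hm h
    have hw : ¬ Commute w y := fun h' => S.inv_ne hyK hy1
      (by rw [← S.w_inv hyK, h'.eq, mul_inv_cancel_right])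
    interval_cases m
    · exact Or.inl rfl
    · exact absurd (pow_one w ▸ h) hw
    · exact Or.inr rfl
    · refine absurd ?_ hw
      have h' := h.inv_left
      rwa [← S.w3_inv, inv_inv] at h'
  rcases S.pair.shape hp with ⟨m, hm, rfl⟩ | ⟨m, hm, rfl⟩
  · rcases hbad m hm hc with rfl | rfl <;> exact S.four_mem.2 (by simp)
  · have h' := hc.mul_left hyt.symm
    rw [mul_assoc, S.tt, mul_one] at h'
    rcases hbad m hm h' with rfl | rfl <;> exact S.four_mem.2 (by simp)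

theorem four_cent (S : Setup P w τ K) {y : G} (hy : y ∈ fixK K τ) {v : G} (hv : v ∈ four P τ) :
    Commute v y := by
  obtain ⟨hyK, hyt⟩ := mem_fixK.1 hy
  have hz : Commute (w ^ 2) y := (S.core.comm y hyK).symm
  rcases S.four_mem.1 hv with rfl | rfl | rfl | rfl
  exacts [Commute.one_left y, hz, hyt.symm, hz.mul_left hyt.symm]

theorem no_conj_w (S : Setup P w τ K) {y : G} (hy : y ∈ K) (hy1 : y ≠ 1) (g : G)
    (hc : Commute (g * w * g⁻¹) y) : False := by
  have h2 : Commute w (g⁻¹ * y * g) := by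
    have h := (Commute.conj_iff g⁻¹).2 hc
    rwa [inv_inv, show g⁻¹ * (g * w * g⁻¹) * g = w by group] at h
  have hmem : g⁻¹ * y * g ∈ Subgroup.zpowers w :=
    S.cent_eq ▸ Subgroup.mem_centralizer_singleton_iff.2 h2.eq.symm
  have h4 := Subgroup.orderOf_dvd_natCard _ hmem
  rw [Nat.card_zpowers, S.hw, show g⁻¹ * y * g = MulAut.conj g⁻¹ y by rw [MulAut.conj_apply, inv_inv],
    MulEquiv.orderOf_eq] at h4
  exact hy1 (orderOf_eq_one_iff.1 (Nat.eq_one_of_dvd_coprimes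
    ((Nat.prime_two.coprime_iff_not_dvd.2 S.core.odd).pow_left 2) h4 (Subgroup.orderOf_dvd_natCard K hy)))

/-- A permutation of the involutions of the four group centralising the reflection core. -/
theorem exists_cycle [IsSimpleGroup G] (S : Setup P w τ K) (hG : ¬ IsPGroup 2 G) :
    ∃ c : G, c * w ^ 2 * c⁻¹ = w ^ 2 * τ ∧ c * (w ^ 2 * τ) * c⁻¹ = τ ∧
      ∀ y ∈ fixK K τ, Commute c y := by
  obtain ⟨h, hh⟩ := isConj_iff.1 (S.one_class hG S.z_ord
    (orderOf_eq_prime (by rw [sq]; exact S.tt) S.four_ne.1))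
  set z := w ^ 2 with hz
  set x := h⁻¹ * z * h with hx
  have hxz : Commute x z := by
    have h1 : Commute z (h * z * h⁻¹) := hh.symm ▸ S.t_comm.symm
    have h2 := (Commute.conj_iff h⁻¹).2 h1
    rwa [inv_inv, show h⁻¹ * (h * z * h⁻¹) * h = z by group] at h2
  have hx2 : x * x = 1 := by
    rw [hx, show h⁻¹ * z * h * (h⁻¹ * z * h) = h⁻¹ * (z * z) * h by group, S.z_ne.2]; group
  have hx1 : x ≠ 1 := fun e => S.z_ne.1 (by
    rw [← hz, show z = h * x * h⁻¹ by rw [hx]; group, e]; group)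
  have hxne : x ≠ z := fun e => S.four_ne.2.1 (by
    calc τ = h * x * h⁻¹ := by rw [e, hh]
      _ = z := by rw [hx]; group)
  obtain ⟨k, hk, p, hp, hkp⟩ := S.core.dec x hxz
  have hpz : Commute p z := S.pair.toDih.z_central hp
  obtain ⟨e1, e2⟩ := S.core.uniq (mul_mem hk (S.core.norm p hpz k hk)) (one_mem K)
    (mul_mem hp hp) (one_mem _) (show k * (p * k * p⁻¹) * (p * p) = 1 * 1 by
      rw [one_mul, ← hx2, hkp]; group)
  have hpr : p ∉ Subgroup.zpowers w := by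
    intro hm
    rcases S.pair.toDih.sq_eq_one hm e2 with e | e
    · rw [e, one_mul, inv_one, mul_one] at e1
      exact hx1 (by rw [hkp, e, eq_one_of_sq S.core.odd hk e1, mul_one])
    · rw [e, ← (S.core.comm k hk).eq, mul_inv_cancel_right] at e1
      exact hxne (by rw [hkp, e, eq_one_of_sq S.core.odd hk e1, one_mul])
  obtain ⟨j, hj⟩ := exists_root S.core.odd hk
  set r := k ^ j with hr
  have hrK : r ∈ K := pow_mem hk j
  have hpk : p * k * p⁻¹ = k⁻¹ := eq_inv_of_mul_eq_one_right e1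
  have hrp : r * p * r⁻¹ = x := by
    have h1 : p * r⁻¹ * p⁻¹ = r := by
      rw [hr, ← inv_pow, ← conj_pow, ← inv_inv (p * k⁻¹ * p⁻¹),
        show (p * k⁻¹ * p⁻¹)⁻¹ = p * k * p⁻¹ by group, hpk, inv_inv]
    rw [hkp, ← hj, show r * p * r⁻¹ = r * (p * r⁻¹ * p⁻¹) * p by group, h1]
  have hwp : w * p * w⁻¹ = z * p := by
    rcases S.pair.shape hp with ⟨m, -, rfl⟩ | ⟨m, -, rfl⟩
    · exact absurd (Subgroup.npow_mem_zpowers w m) hpr
    · have e : τ * w⁻¹ = w * τ := by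
        have := S.pair.tinv.2
        rw [← inv_inj, inv_inv, show (τ * w * τ⁻¹)⁻¹ = τ * w⁻¹ * τ⁻¹ by group] at this
        exact mul_inv_eq_iff_eq_mul.1 this
      calc w * (w ^ m * τ) * w⁻¹ = w * w ^ m * (τ * w⁻¹) := by group
        _ = w * w ^ m * (w * τ) := by rw [e]
        _ = z * (w ^ m * τ) := by
          rw [hz, ← mul_assoc, ← pow_succ', ← pow_succ, ← mul_assoc, ← pow_add, add_comm 2 m]
  set w' := r * w * r⁻¹ with hw'
  have hrz : Commute r z := S.core.comm r hrK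
  have hw'z : w' * z * w'⁻¹ = z := by
    calc r * w * r⁻¹ * z * (r * w * r⁻¹)⁻¹ = r * w * (r⁻¹ * z * r) * w⁻¹ * r⁻¹ := by group
      _ = r * w * z * w⁻¹ * r⁻¹ := by rw [mul_assoc r⁻¹, ← hrz.eq, inv_mul_cancel_left]
      _ = r * z * r⁻¹ := by
        rw [show r * w * z * w⁻¹ * r⁻¹ = r * (w * z * w⁻¹) * r⁻¹ by group,
          (show Commute w z from Commute.self_pow w 2).eq, mul_inv_cancel_right]
      _ = z := by rw [hrz.eq, mul_inv_cancel_right]
  have hw'x : w' * x * w'⁻¹ = z * x := by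
    calc r * w * r⁻¹ * x * (r * w * r⁻¹)⁻¹ = r * w * (r⁻¹ * x * r) * w⁻¹ * r⁻¹ := by group
      _ = r * w * p * w⁻¹ * r⁻¹ := by rw [← hrp]; group
      _ = r * (w * p * w⁻¹) * r⁻¹ := by group
      _ = r * (z * p) * r⁻¹ := by rw [hwp]
      _ = z * (r * p * r⁻¹) := by rw [← mul_assoc r z p, hrz.eq]; group
      _ = z * x := by rw [hrp]
  set t := h * w' * h⁻¹ with ht
  have htt : t * τ * t⁻¹ = τ := by
    rw [← hh, show h * w' * h⁻¹ * (h * z * h⁻¹) * (h * w' * h⁻¹)⁻¹ = h * (w' * z * w'⁻¹) * h⁻¹ by group, hw'z]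
  have hzt : Commute τ z := S.t_comm
  have htz : t * z * t⁻¹ = z * τ := by
    calc t * z * t⁻¹ = h * (w' * (h⁻¹ * z * h) * w'⁻¹) * h⁻¹ := by rw [ht]; group
      _ = h * (z * (h⁻¹ * z * h)) * h⁻¹ := by rw [← hx, hw'x]
      _ = h * z * h⁻¹ * z := by group
      _ = z * τ := by rw [hh, hzt.eq]
  have htzt : t * (z * τ) * t⁻¹ = z := by
    rw [show t * (z * τ) * t⁻¹ = t * z * t⁻¹ * (t * τ * t⁻¹) by group, htz, htt, mul_assoc, S.tt, mul_one]
  have hnorm : ∀ y ∈ fixK K τ, t * y * t⁻¹ ∈ fixK K τ := by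
    intro y hy
    obtain ⟨hyK, hyt⟩ := mem_fixK.1 hy
    have c1 : Commute (t * y * t⁻¹) τ := by
      have := (Commute.conj_iff t).2 hyt
      rwa [htt] at this
    have c2 : Commute (t * y * t⁻¹) z := by
      have := (Commute.conj_iff t).2 ((S.core.comm y hyK).mul_right hyt)
      rwa [htzt] at this
    obtain ⟨a, ha, b, hb, e⟩ := S.dec_pair c2 c1
    have hab : Commute a b := (S.four_cent ha hb).symm
    obtain ⟨N, hN⟩ := Nat.odd_iff.2 (Nat.two_dvd_ne_zero.1 S.core.odd)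
    have hb2 : b * b = 1 := by
      rcases S.four_mem.1 hb with rfl | rfl | rfl | rfl
      · exact mul_one 1
      · exact S.z_ne.2
      · exact S.tt
      · rw [mul_assoc, ← mul_assoc τ, hzt.eq, mul_assoc (w ^ 2) τ, S.tt, mul_one]; exact S.z_ne.2
    have h1 : (a * b) ^ Nat.card K = 1 := by
      rw [← e, conj_pow, orderOf_dvd_iff_pow_eq_one.1 (Subgroup.orderOf_dvd_natCard K hyK)]; group
    rw [hab.mul_pow, orderOf_dvd_iff_pow_eq_one.1 (Subgroup.orderOf_dvd_natCard K (mem_fixK.1 ha).1),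
      one_mul, hN, pow_succ, pow_mul, sq, hb2, one_pow, one_mul] at h1
    rw [e, h1, mul_one]
    exact ha
  have hwt : w * τ * w⁻¹ = z * τ := by
    have e : τ * w⁻¹ = w * τ := by
      have := S.pair.tinv.2
      rw [← inv_inj, inv_inv, show (τ * w * τ⁻¹)⁻¹ = τ * w⁻¹ * τ⁻¹ by group] at this
      exact mul_inv_eq_iff_eq_mul.1 this
    rw [mul_assoc, e, ← mul_assoc, ← sq]
  refine ⟨w * t * w⁻¹ * t⁻¹, ?_, ?_, fun y hy => ?_⟩
  · have e1 : t⁻¹ * z * t = z * τ := by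
      calc t⁻¹ * z * t = t⁻¹ * (t * (z * τ) * t⁻¹) * t := by rw [htzt]
        _ = z * τ := by group
    have e2 : w⁻¹ * (z * τ) * w = τ := by
      rw [← hwt]; group
    calc w * t * w⁻¹ * t⁻¹ * z * (w * t * w⁻¹ * t⁻¹)⁻¹
        = w * (t * (w⁻¹ * (t⁻¹ * z * t) * w) * t⁻¹) * w⁻¹ := by group
      _ = w * τ * w⁻¹ := by rw [e1, e2, htt]
      _ = z * τ := hwt
  · have e1 : t⁻¹ * (z * τ) * t = z := by
      rw [← htz]; group
    calc w * t * w⁻¹ * t⁻¹ * (z * τ) * (w * t * w⁻¹ * t⁻¹)⁻¹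
        = w * (t * (w⁻¹ * (t⁻¹ * (z * τ) * t) * w) * t⁻¹) * w⁻¹ := by group
      _ = w * (z * τ) * w⁻¹ := by
        rw [e1, mul_assoc w⁻¹ z w, ← (Commute.self_pow w 2).eq, inv_mul_cancel_left, htz]
      _ = τ := by
        rw [← mul_assoc w z τ, (Commute.self_pow w 2).eq, mul_assoc z w τ, mul_assoc z (w * τ), hwt,
          ← mul_assoc, S.z_ne.2, one_mul]
  · obtain ⟨hyK, hyt⟩ := mem_fixK.1 hy
    have hy' : t⁻¹ * y * t ∈ fixK K τ := by
      let f : fixK K τ → fixK K τ := fun a => ⟨t * a * t⁻¹, hnorm a a.2⟩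
      have hf : Function.Injective f := fun a b e =>
        Subtype.ext (mul_left_cancel (mul_right_cancel (congrArg Subtype.val e)))
      obtain ⟨a, ha⟩ := Finite.surjective_of_injective hf ⟨y, hy⟩
      have e : t * (a : G) * t⁻¹ = y := congrArg Subtype.val ha
      rw [← e, show t⁻¹ * (t * (a : G) * t⁻¹) * t = a by group]
      exact a.2
    refine mul_inv_eq_iff_eq_mul.1 ?_
    have ew : ∀ u ∈ K, w⁻¹ * u * w = u⁻¹ := fun u hu => by
      calc w⁻¹ * u * w = w⁻¹ * (w * u⁻¹ * w⁻¹) * w := by rw [S.w_inv (inv_mem hu), inv_inv]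
        _ = u⁻¹ := by group
    calc w * t * w⁻¹ * t⁻¹ * y * (w * t * w⁻¹ * t⁻¹)⁻¹
        = w * (t * (w⁻¹ * (t⁻¹ * y * t) * w) * t⁻¹) * w⁻¹ := by group
      _ = w * (t * (t⁻¹ * y * t)⁻¹ * t⁻¹) * w⁻¹ := by rw [ew _ (mem_fixK.1 hy').1]
      _ = w * y⁻¹ * w⁻¹ := by group
      _ = y := by rw [S.w_inv (inv_mem hyK), inv_inv]

theorem card_cent_pair_y (S : Setup P w τ K) {y : G} (hy : y ∈ fixK K τ) (hy1 : y ≠ 1) :
    Nat.card (Subgroup.centralizer ({w ^ 2, y} : Set G)) =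
      4 * (Nat.card (fixK K τ) * Nat.card (fixK K (w * τ))) := by
  have hm : ∀ g, g ∈ Subgroup.centralizer ({w ^ 2, y} : Set G) ↔ Commute g (w ^ 2) ∧ Commute g y := by
    intro g
    rw [Subgroup.mem_centralizer_iff]
    simp only [Set.mem_insert_iff, Set.mem_singleton_iff, forall_eq_or_imp, forall_eq]
    exact ⟨fun h => ⟨h.1.symm, h.2.symm⟩, fun h => ⟨h.1.symm, h.2.symm⟩⟩
  rw [card_decomp S.core _ K (four P τ)
    (fun k hk => (hm k).2 ⟨S.core.comm k hk, S.comm hk (mem_fixK.1 hy).1⟩)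
    (fun p hp => (hm p).2 ⟨S.pair.toDih.z_central (mem_four.1 hp).1, S.four_cent hy hp⟩)
    le_rfl (fun p hp => (mem_four.1 hp).1) ?_, S.card_four, S.card_K, mul_comm]
  intro g hg
  obtain ⟨h1, h2⟩ := (hm g).1 hg
  obtain ⟨k, hk, p, hp, rfl⟩ := S.core.dec g h1
  have hpy : Commute p y := by
    have h3 := (S.comm hk (mem_fixK.1 hy).1).inv_left.mul_left h2
    rwa [inv_mul_cancel_left] at h3
  exact ⟨k, hk, p, S.p_cent hy hy1 hp hpy, rfl⟩

/-- The centraliser of `y`: its order, and the classes of its involutions. -/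
theorem cent_data [IsSimpleGroup G] (S : Setup P w τ K) (hG : ¬ IsPGroup 2 G) {y : G}
    (hy : y ∈ fixK K τ) (hy1 : y ≠ 1) :
    ∃ I : ℕ, Odd I ∧
      Nat.card (Subgroup.centralizer ({y} : Set G)) =
        4 * (Nat.card (fixK K τ) * Nat.card (fixK K (w * τ))) * I ∧
      3 * (Nat.card (fixK K (w * τ)) : ℤ) ^ 2 ≤ I ∧
      Nat.card {v : Subgroup.centralizer ({y} : Set G) // orderOf v = 2} = I := by
  classical
  haveI : Fact (Nat.Prime 2) := ⟨Nat.prime_two⟩
  set X := Subgroup.centralizer ({y} : Set G) with hXdef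
  haveI := Fintype.ofFinite X
  have hmX : ∀ {g : G}, g ∈ X ↔ Commute g y := fun {g} => Subgroup.mem_centralizer_singleton_iff
  have hVX : four P τ ≤ X := fun v hv => hmX.2 (S.four_cent hy hv)
  have hV2 : IsPGroup 2 ((four P τ).subgroupOf X) :=
    (IsPGroup.of_card (n := 2) (by rw [S.card_four]; norm_num) : IsPGroup 2 (four P τ)).of_equiv
      (Subgroup.subgroupOfEquivOfLe hVX).symm
  obtain ⟨Q, hQ⟩ := hV2.exists_le_sylow
  have hcV : Nat.card ((four P τ).subgroupOf X) = 4 := by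
    rw [Nat.card_congr (Subgroup.subgroupOfEquivOfLe hVX).toEquiv, S.card_four]
  have hQ4 : Nat.card Q = 4 := by
    obtain ⟨j, hj⟩ := IsPGroup.iff_card.1 Q.2
    have h4 : 4 ≤ Nat.card Q := hcV ▸ Subgroup.card_le_of_le hQ
    have hj' : Nat.card Q = 2 ^ j := hj
    by_contra hne
    have hj3 : 3 ≤ j := by
      by_contra hlt
      have := Nat.pow_le_pow_right (show 0 < 2 by norm_num) (show j ≤ 2 by omega)
      omega
    have hQG : IsPGroup 2 ((Q : Subgroup X).map X.subtype) := Q.2.map _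
    obtain ⟨g, hg⟩ := DihedralFusion.exists_conj_le (S := P) hQG
    have hle : ((Q : Subgroup X).map X.subtype).map (MulAut.conj g).toMonoidHom ≤ (P : Subgroup G) := by
      intro a ha
      exact hg ha
    have heq := Subgroup.eq_of_le_of_card_ge hle (by
      rw [Subgroup.card_map_of_injective (MulAut.conj g).injective,
        Subgroup.card_map_of_injective X.subtype_injective, S.pair.toDih.card, hj']
      exact le_trans (by norm_num : 2 * (2 * 2) ≤ 2 ^ 3) (Nat.pow_le_pow_right (by norm_num) hj3))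
    obtain ⟨_, ⟨q, -, rfl⟩, hq⟩ := heq.ge S.pair.mem
    have hq' : g * (q : G) * g⁻¹ = w := hq
    refine S.no_conj_w (mem_fixK.1 hy).1 hy1 g⁻¹ ?_
    rw [inv_inv, show g⁻¹ * w * g = (q : G) by rw [← hq']; group]
    exact hmX.1 q.2
  have hQV : (four P τ).subgroupOf X = (Q : Subgroup X) :=
    Subgroup.eq_of_le_of_card_ge hQ (by rw [hcV, hQ4])
  set g₀ := (Q : Subgroup X).index with hg₀def
  have hg₀ : Odd g₀ := Nat.not_even_iff_odd.1 fun h => Q.not_dvd_index (even_iff_two_dvd.1 h)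
  have hXcard : Nat.card X = 4 * g₀ := by rw [← (Q : Subgroup X).card_mul_index, hQ4]
  have hzV : w ^ 2 ∈ four P τ := S.four_mem.2 (by simp)
  have htV : τ ∈ four P τ := S.four_mem.2 (by simp)
  set zX : X := ⟨w ^ 2, hVX hzV⟩ with hzX
  have hzX2 : orderOf zX = 2 := by rw [hzX, Subgroup.orderOf_mk, S.z_ord]
  obtain ⟨c, hc1, hc2, hcy⟩ := S.exists_cycle hG
  have hnc : ¬ ∃ N : Subgroup X, N.Normal ∧ Nat.card N = g₀ := by
    rintro ⟨N, hN, hNc⟩
    have hidx : Nat.card (X ⧸ N) = 2 ^ 2 := by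
      have := N.card_mul_index
      rw [hNc, hXcard, mul_comm 4] at this
      rw [← Subgroup.index_eq_card]
      exact Nat.eq_of_mul_eq_mul_left hg₀.pos (this.trans rfl)
    haveI : IsMulCommutative (X ⧸ N) := IsPGroup.isMulCommutative_of_card_eq_prime_sq hidx
    set cX : X := ⟨c, hmX.2 (hcy y hy)⟩
    have hmem : cX * zX * cX⁻¹ * zX⁻¹ ∈ N := by
      rw [← QuotientGroup.eq_one_iff, QuotientGroup.mk_mul, QuotientGroup.mk_mul, QuotientGroup.mk_mul,
        QuotientGroup.mk_inv, QuotientGroup.mk_inv, (IsMulCommutative.is_comm (M := X ⧸ N)).comm (cX : X ⧸ N) (zX : X ⧸ N)]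
      group
    have hval : cX * zX * cX⁻¹ * zX⁻¹ = (⟨τ, hVX htV⟩ : X) := Subtype.ext (by
      show c * w ^ 2 * c⁻¹ * (w ^ 2)⁻¹ = τ
      rw [hc1, inv_eq_of_mul_eq_one_right S.z_ne.2, mul_assoc, S.t_comm.eq, ← mul_assoc, S.z_ne.2, one_mul])
    rw [hval] at hmem
    have h2 := Subgroup.orderOf_dvd_natCard N hmem
    rw [Subgroup.orderOf_mk, orderOf_eq_prime (p := 2) (by rw [sq]; exact S.tt) S.four_ne.1, hNc] at h2
    exact Nat.not_even_iff_odd.2 hg₀ (even_iff_two_dvd.2 h2)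
  obtain ⟨-, hexp, hone⟩ := klein_sylow_fusion hg₀ hXcard hnc Q
  have hQk : IsKleinFour (Q : Subgroup X) := by
    haveI : Nontrivial (Q : Subgroup X) := Finite.one_lt_card_iff_nontrivial.1 (by rw [hQ4]; norm_num)
    exact ⟨hQ4, (Monoid.exponent_eq_prime_iff Nat.prime_two).2 fun x hx =>
      orderOf_eq_prime (by rw [sq]; exact hexp x) hx⟩
  obtain ⟨M, hM⟩ := exists_isPModular Nat.prime_two
  obtain ⟨ζ₂, ζ₃, ζ₄, ε, hε, n2, n3, d23, d24, d34, hB, hval, c2, c3, c4, hrel⟩ :=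
    Cfsg.Agent.S0948.result M hM Q hQk hone
  have n4 : (ζ₄ : X → ℂ) ≠ fun _ => 1 := fun e => by
    have := (hval zX hzX2).2.2
    rw [e] at this
    norm_num at this
  have hzQ : zX ∈ (Q : Subgroup X) := hQV ▸ Subgroup.mem_subgroupOf.2 hzV
  obtain ⟨hrel1, -, ⟨n, hn, hform⟩, -, -⟩ := klein_data hM hg₀ hXcard hnc Q hzQ hzX2 ζ₂ ζ₃ ζ₄ 1 ε (-1)
    hB ⟨n2, n3, n4, d23, d24, d34⟩ ⟨Or.inl rfl, hε, Or.inr rfl⟩
    ⟨by rw [(hval zX hzX2).1]; simp, (hval zX hzX2).2.1, by rw [(hval zX hzX2).2.2]; simp⟩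
  have hCz : Nat.card (Subgroup.centralizer ({zX} : Set X)) =
      4 * (Nat.card (fixK K τ) * Nat.card (fixK K (w * τ))) := by
    rw [← S.card_cent_pair_y hy hy1]
    refine Nat.card_congr
      { toFun := fun g => ⟨((g : X) : G), Subgroup.mem_centralizer_iff.2 ?_⟩
        invFun := fun g => ⟨⟨(g : G), hmX.2 (Subgroup.mem_centralizer_iff.1 g.2 y (by simp)).symm⟩,
          Subgroup.mem_centralizer_singleton_iff.2 (Subtype.ext
            (Subgroup.mem_centralizer_iff.1 g.2 (w ^ 2) (by simp)).symm)⟩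
        left_inv := fun g => rfl
        right_inv := fun g => rfl }
    rintro a (rfl | rfl)
    · exact (congrArg Subtype.val (Subgroup.mem_centralizer_singleton_iff.1 g.2)).symm
    · exact (hmX.1 (g : X).2).symm
  have hCV : Nat.card (Subgroup.centralizer ((Q : Subgroup X) : Set X)) = 4 * Nat.card (fixK K τ) := by
    rw [← S.card_cent_pair]
    have hback : ∀ g : G, g ∈ Subgroup.centralizer ({w ^ 2, τ} : Set G) → g ∈ X ∧
        ∀ v ∈ four P τ, Commute g v := by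
      intro g hg
      obtain ⟨h1, h2⟩ := S.mem_cent_pair.1 hg
      obtain ⟨a, ha, b, hb, rfl⟩ := S.dec_pair h1 h2
      refine ⟨hmX.2 ((S.comm (mem_fixK.1 ha).1 (mem_fixK.1 hy).1).mul_left (S.four_cent hy hb)), ?_⟩
      intro v hv
      rcases S.four_mem.1 hv with rfl | rfl | rfl | rfl
      exacts [Commute.one_right _, h1, h2, h1.mul_right h2]
    refine Nat.card_congr
      { toFun := fun g => ⟨((g : X) : G), S.mem_cent_pair.2 ⟨?_, ?_⟩⟩
        invFun := fun g => ⟨⟨(g : G), (hback g g.2).1⟩, Subgroup.mem_centralizer_iff.2 ?_⟩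
        left_inv := fun g => rfl
        right_inv := fun g => rfl }
    · exact (congrArg Subtype.val (Subgroup.mem_centralizer_iff.1 g.2 zX hzQ)).symm
    · exact (congrArg Subtype.val (Subgroup.mem_centralizer_iff.1 g.2 ⟨τ, hVX htV⟩
        (hQV ▸ Subgroup.mem_subgroupOf.2 htV))).symm
    · intro v hv
      refine Subtype.ext ((hback g g.2).2 v ?_).symm.eq
      rw [SetLike.mem_coe, ← hQV] at hv
      exact Subgroup.mem_subgroupOf.1 hv
  obtain ⟨I, hI⟩ : 4 * (Nat.card (fixK K τ) * Nat.card (fixK K (w * τ))) ∣ Nat.card X :=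
    hCz ▸ Subgroup.card_subgroup_dvd_card _
  have hpu : 0 < Nat.card (fixK K τ) := Nat.card_pos
  have hpv : 0 < Nat.card (fixK K (w * τ)) := Nat.card_pos
  have hn' : n = Nat.card (fixK K (w * τ)) := by
    rw [hCV, hCz] at hn
    exact Nat.eq_of_mul_eq_mul_left (show 0 < 4 * Nat.card (fixK K τ) by omega) (by rw [mul_comm]; linarith)
  refine ⟨I, ?_, hI, ?_, ?_⟩
  · rw [hXcard, mul_assoc] at hI
    have e : g₀ = Nat.card (fixK K τ) * Nat.card (fixK K (w * τ)) * I :=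
      Nat.eq_of_mul_eq_mul_left (by norm_num : 0 < 4) hI
    rw [e] at hg₀
    exact Nat.Odd.of_mul_right (m := Nat.card (fixK K τ) * Nat.card (fixK K (w * τ))) hg₀
  · rw [hn', hCz, hI] at hform
    have hd : ∀ χ : IrrCharacter X, 0 < charDegree (χ : X → ℂ) := fun χ =>
      Nat.pos_of_ne_zero fun e => irr_ne_zero χ.2 (by rw [← irr_charDegree_cast, e, Nat.cast_zero])
    refine klein_sum_bound hε (u := Nat.card (fixK K τ) * Nat.card (fixK K (w * τ)))
      (x₁ := charDegree (ζ₂ : X → ℂ)) (x₂ := charDegree (ζ₃ : X → ℂ)) (x₃ := charDegree (ζ₄ : X → ℂ))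
      (Nat.mul_pos hpu hpv) (hd _) (hd _) (hd _) c2 c3 c4 (by linarith [hrel1]) ?_
    push_cast at hform ⊢
    linarith [hform]
  · have h1 := card_isConj_mul_card_centralizer zX
    rw [hCz, hI, mul_comm] at h1
    rw [← Nat.eq_of_mul_eq_mul_left (Nat.mul_pos (by norm_num) (Nat.mul_pos hpu hpv)) h1]
    refine Nat.card_congr (Equiv.subtypeEquivRight fun v => ⟨fun hv => hone zX v hzX2 hv, fun hv => ?_⟩)
    obtain ⟨g, rfl⟩ := isConj_iff.1 hv
    rw [conj_orderOf, hzX2]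

end Setup

end CfsgLib.SmallCent
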