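import Cfsg.Agent.Lib.SmallCent.Arith
import Cfsg.Agent.Lib.SmallCent.Degree
import Cfsg.Agent.Lib.SmallCent.Index
import Cfsg.Agent.Lib.SmallCent.Two
import Cfsg.Agent.S0514
import Cfsg.Agent.Lib.Blocks.Dihedral.Section
import Cfsg.Agent.S0495
import Cfsg.Agent.S0984
import Cfsg.Agent.Lib.SmallSimple.Order360

/-!
# Simple groups with a centraliser of order four
-/

set_option autoImplicit false
set_option linter.unusedSectionVars false
set_option linter.style.haveILetI false

namespace CfsgLib.SmallCent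

open Cfsg CfsgLib.Blocks.Dihedral CfsgLib.CharTheory

universe u

variable {G : Type u} [Group G] [Finite G] [IsSimpleGroup G]
variable {P : Sylow 2 G} {w τ : G} {K : Subgroup G}

theorem Setup.degree_ge (S : Setup P w τ K) {M : Ideal AlgInt} (hM : IsPModular 2 M) {χ : IrrCharacter G}
    (hχ : χ ∈ principalBlock M G) (h1 : (χ : G → ℂ) ≠ fun _ => 1) {e : ℤ}
    (he : ∀ v : G, orderOf v = 2 → (χ : G → ℂ) v = e) (hu : 1 < Nat.card (fixK K τ)) :
    8 ≤ charDegree (χ : G → ℂ) := by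
  classical
  haveI := Fintype.ofFinite G
  haveI : Fact (Nat.Prime 2) := ⟨Nat.prime_two⟩
  obtain ⟨p, hp, hpd⟩ := Nat.exists_prime_and_dvd (ne_of_gt hu)
  haveI := Fact.mk hp
  obtain ⟨y', hy'⟩ := exists_prime_orderOf_dvd_card' p hpd
  set y : G := (y' : G) with hydef
  have hy : y ∈ fixK K τ := y'.2
  have hyo : orderOf y = p := by rw [hydef, Subgroup.orderOf_coe, hy']
  have hp2 : p ≠ 2 := fun e => Nat.not_even_iff_odd.2 S.odd_card (even_iff_two_dvd.2 (e ▸ hpd))
  have hy1 : y ≠ 1 := fun e => by rw [e, orderOf_one] at hyo; exact hp.ne_one hyo.symm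
  have hval : ∀ v ∈ four P τ, v ≠ 1 → ∀ i : ℕ, (χ : G → ℂ) (v * y ^ i) = (e : ℂ) := by
    intro v hv hv1 i
    have hv2 : orderOf v = 2 := by
      refine orderOf_eq_prime ?_ hv1
      rw [sq]
      rcases S.four_mem.1 hv with rfl | rfl | rfl | rfl
      · exact mul_one 1
      · exact S.z_ne.2
      · exact S.tt
      · rw [mul_assoc, ← mul_assoc τ, S.t_comm.eq, mul_assoc (w ^ 2) τ, S.tt, mul_one]; exact S.z_ne.2
    obtain ⟨N, hN, hodd, k, hk⟩ := Cfsg.Agent.S0514.result P 4 (by norm_num) S.pair.iso v hv2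
    haveI := hN
    rw [CfsgLib.Blocks.Dihedral.section_const hM ⟨1, by rw [hv2, pow_one]⟩ N
      (fun h => Nat.not_even_iff_odd.2 hodd (even_iff_two_dvd.2 h)) hk hχ (v := y ^ i)
      (CfsgLib.Blocks.AbelianFree.mem_regC.2 ⟨(S.four_cent hy hv).symm.pow_left i, fun h => by
        have h2 := h.trans (orderOf_pow_dvd i)
        rw [hyo] at h2
        exact hp2 ((Nat.prime_dvd_prime_iff_eq Nat.prime_two hp).1 h2).symm⟩)]
    exact he v hv2
  have hne : (χ : G → ℂ) y ≠ (χ : G → ℂ) 1 := by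
    intro h
    have hc := isCharacter_of_irr χ.2
    rcases Subgroup.Normal.eq_bot_or_eq_top (charKernel_normal (χ : G → ℂ) hc) with hk | hk
    · have := (mem_charKernel hc y).2 h
      rw [hk, Subgroup.mem_bot] at this
      exact hy1 this
    · exact h1 (irr_eq_one_of_kernel_top χ.2 fun g => (mem_charKernel hc g).1 (hk ▸ Subgroup.mem_top g))
  obtain ⟨d, hd, hd8⟩ := eight_le_degree (isCharacter_of_irr χ.2) hp hp2 hyo (four P τ) S.card_four
    (fun v hv => S.four_cent hy hv) hval (fun i => by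
      rw [← S.w_inv (pow_mem (mem_fixK.1 hy).1 i), irr_class]) hne
  rw [← CfsgLib.Blocks.irr_charDegree_cast] at hd
  have : charDegree (χ : G → ℂ) = d := by exact_mod_cast hd
  omega

theorem Setup.classify_aux (S : Setup P w τ K) (hG : ¬ IsCyclic G)
    (hcase : Nat.card (fixK K (w * τ)) = 1 ∨
      (3 ≤ Nat.card (fixK K τ) ∧ Nat.card (fixK K τ) ≤ Nat.card (fixK K (w * τ)))) :
    Nat.card G = 360 ∨ Nat.card G = 168 ∨ Nat.card G = 2520 := by
  classical
  haveI : Fact (Nat.Prime 2) := ⟨Nat.prime_two⟩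
  have h2g : ¬ IsPGroup 2 G := not_isPGroup hG
  obtain ⟨x, A, B, δ, hδ, hx0, hxne, heq1, hAB, heq2, hchar⟩ := equations S h2g
  have ho1 : Odd (Nat.card (fixK K τ)) := S.odd_card
  have ho2 : Odd (Nat.card (fixK K (w * τ))) := S.odd_card
  have hdeg : 1 < Nat.card (fixK K τ) → 8 ≤ x ∧ 8 ≤ A.natAbs := by
    intro hu
    refine ⟨?_, ?_⟩
    · obtain ⟨M, χ, e, hM, hχ, h1, hd, -, he⟩ := hchar x (Or.inl rfl)
      exact hd ▸ S.degree_ge hM hχ h1 he hu
    · obtain ⟨M, χ, e, hM, hχ, h1, hd, -, he⟩ := hchar A.natAbs (Or.inr rfl)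
      exact hd ▸ S.degree_ge hM hχ h1 he hu
  set u₁ := Nat.card (fixK K τ) with hu1
  set u₂ := Nat.card (fixK K (w * τ)) with hu2
  have hu : 0 < u₁ * u₂ := Nat.mul_pos Nat.card_pos Nat.card_pos
  obtain ⟨g, hg⟩ : 8 * (u₁ * u₂) ∣ Nat.card G := by
    rw [← S.card_cent_z]; exact Subgroup.card_subgroup_dvd_card _
  have hgodd : Odd g := by
    have h1 := (P : Subgroup G).card_mul_index
    rw [hg, mul_assoc, S.pair.toDih.card] at h1
    have h2 : (P : Subgroup G).index = u₁ * u₂ * g :=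
      Nat.eq_of_mul_eq_mul_left (by norm_num : 0 < 8) h1
    have h3 : Odd (P : Subgroup G).index :=
      Nat.not_even_iff_odd.1 fun h => P.not_dvd_index (even_iff_two_dvd.1 h)
    rw [h2] at h3
    exact Nat.Odd.of_mul_right h3
  have hgG : (Nat.card G : ℤ) = 8 * ((u₁ : ℤ) * u₂) * g := by rw [hg]; push_cast; ring
  have huZ : ((u₁ : ℤ) * u₂) ≠ 0 := by exact_mod_cast hu.ne'
  have hse : Even (u₁ + u₂) := ho1.add_odd ho2
  obtain ⟨t, k, ht, hte, hk, hs, hxt, hgt⟩ := order_split (s := u₁ + u₂) hδ hx0 hgodd hse hxne (by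
    rw [hgG] at heq1
    apply mul_left_cancel₀ (mul_ne_zero (by norm_num : (8 : ℤ) ≠ 0) huZ)
    push_cast
    linear_combination heq1)
  have hcardG : (Nat.card G : ℤ) = 8 * ((u₁ : ℤ) * u₂) * ((4 * (t : ℤ) + δ) * (2 * t + δ) * (k : ℤ) ^ 2) := by
    rw [hgG, hgt]
  have hd1 : δ * δ = 1 := by rcases hδ with rfl | rfl <;> rfl
  have hsum : A + B = -2 * δ * (2 * t + δ) := by
    rw [hAB, hxt]
    linear_combination hd1
  have hprod : ((k : ℤ) ^ 2 * (2 * t + δ) ^ 2 - 16 * ((u₁ : ℤ) * u₂)) * (A * B) =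
      δ * (4 * t + δ) * (2 * t + δ) ^ 2 * (k : ℤ) ^ 2 := by
    rw [hcardG, hsum, hxt] at heq2
    have hx' : (4 * (t : ℤ) + δ) ≠ 0 := by rw [← hxt]; exact_mod_cast hx0.ne'
    apply mul_left_cancel₀ (mul_ne_zero (mul_ne_zero (by norm_num : (16 : ℤ) ≠ 0) huZ) hx')
    linear_combination -heq2
  rcases hcase with h2 | ⟨h1, h12⟩
  · rw [h2] at hs hse hprod hcardG
    obtain ⟨r, hr⟩ := ho1
    by_cases h1 : u₁ = 1
    · rw [h1] at hs hcardG
      have hk0 := hk.pos
      have hkt : t = 2 ∧ k = 1 := by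
        have h3 : t ≤ 2 := Nat.le_of_dvd (by norm_num) ⟨k, by omega⟩
        obtain rfl : t = 2 := by omega
        omega
      obtain ⟨rfl, rfl⟩ := hkt
      rcases hδ with rfl | rfl <;> norm_num at hcardG
      · left; exact_mod_cast hcardG
      · right; left; exact_mod_cast hcardG
    · obtain ⟨rfl, h⟩ := one_trivial (A := A) (B := B) (u := u₁) hδ (by omega) ⟨r, hr⟩ ht hk hs hsum (by
        push_cast at hprod
        linear_combination hprod)
      rcases h with ⟨e1, rfl, rfl⟩ | ⟨e1, rfl, rfl⟩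
      · rw [e1] at hcardG
        norm_num at hcardG
        right; right; exact_mod_cast hcardG
      · exfalso
        have := (hdeg (by omega)).1
        omega
  · exfalso
    have h2 : 3 ≤ u₂ := h1.trans h12
    haveI : Nontrivial (fixK K τ) := Finite.one_lt_card_iff_nontrivial.1 (by omega)
    obtain ⟨⟨y, hy⟩, hy1'⟩ := exists_ne (1 : fixK K τ)
    have hy1 : y ≠ 1 := fun e => hy1' (Subtype.ext e)
    obtain ⟨I, -, hX, hI, hinv⟩ := S.cent_data h2g hy hy1
    set X := Subgroup.centralizer ({y} : Set G) with hXdef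
    have hmod := S.index_mod h2g hy hy1 hX hinv
    rw [← hXdef] at hmod
    have hnI : (X.index : ℤ) * I = 2 * ((4 * (t : ℤ) + δ) * (2 * t + δ) * (k : ℤ) ^ 2) := by
      have h0 : ((Nat.card X * X.index : ℕ) : ℤ) = Nat.card G := by rw [X.card_mul_index]
      rw [hX, hcardG] at h0
      push_cast at h0
      apply mul_left_cancel₀ (mul_ne_zero (by norm_num : (4 : ℤ) ≠ 0) huZ)
      linear_combination h0
    have hH := S.extCent_index hy hy1
    rw [← hXdef] at hH
    have hHne : Setup.extCent y ≠ ⊤ := fun e => by rw [e, Subgroup.index_top] at hH; omega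
    have hfac := CfsgLib.SmallOrder.card_dvd_factorial_index hHne
    have hbig := big_order (k := k) hδ h1 h2 ht hs
    rw [← hcardG] at hbig
    rcases index_cases hδ h1 h12 ht hs hmod hI hnI with e | e | ⟨e, rfl, ht24⟩ | ⟨e, rfl, rfl, he⟩
    · have h3 : (Setup.extCent y).index = 3 := by omega
      rw [h3] at hfac
      have := Nat.le_of_dvd (Nat.factorial_pos 3) hfac
      norm_num [Nat.factorial] at this
      omega
    · have h7 : (Setup.extCent y).index = 7 := by omega
      rw [h7] at hfac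
      have := Nat.le_of_dvd (Nat.factorial_pos 7) hfac
      norm_num [Nat.factorial] at this
      omega
    · have h11 : (Setup.extCent y).index = 11 := by omega
      rw [h11] at hfac
      have hN : Nat.card G = 8 * (u₁ * u₂) * ((4 * t + 1) * (2 * t + 1) * k ^ 2) := by exact_mod_cast hcardG
      haveI : Fact (Nat.Prime 11) := ⟨by norm_num⟩
      have h11G : 11 ∣ Nat.card G := h11 ▸ Subgroup.index_dvd_card _
      refine no_eleven ht24 ht hte ?_ ?_ ?_
      · exact (Dvd.intro_left _ rfl : _ ∣ (8 * (u₁ * u₂) * ((2 * t + 1) * k ^ 2)) * (4 * t + 1)).trans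
          (by rw [show 8 * (u₁ * u₂) * ((2 * t + 1) * k ^ 2) * (4 * t + 1) = Nat.card G by rw [hN]; ring]; exact hfac)
      · exact (Dvd.intro_left _ rfl : _ ∣ (8 * (u₁ * u₂) * ((4 * t + 1) * k ^ 2)) * (2 * t + 1)).trans
          (by rw [show 8 * (u₁ * u₂) * ((4 * t + 1) * k ^ 2) * (2 * t + 1) = Nat.card G by rw [hN]; ring]; exact hfac)
      · have hp : Nat.Prime 11 := by norm_num
        rw [hN] at h11G
        rcases hp.dvd_mul.1 h11G with h | h
        · exfalso
          have hK : 11 ∣ Nat.card K := by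
            rw [S.card_K]
            exact (hp.dvd_mul.1 h).resolve_left (by norm_num)
          obtain ⟨g', hg'⟩ := exists_prime_orderOf_dvd_card' 11 hK
          exact eleven_absurd h11 (by rw [Subgroup.orderOf_coe, hg']) S.z_ord (S.core.comm _ g'.2)
        · rcases hp.dvd_mul.1 h with h' | h'
          · exact h'
          · exfalso
            obtain ⟨c, rfl⟩ := hp.dvd_of_dvd_pow h'
            have h121 : 121 ∣ Nat.factorial 11 := (Dvd.intro_left
              (8 * (u₁ * u₂) * ((4 * t + 1) * (2 * t + 1) * c ^ 2)) (by rw [hN]; ring) :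
                121 ∣ Nat.card G).trans hfac
            norm_num [Nat.factorial] at h121
    · have hd := disc_eq (A := A) (B := B) (δ := (1 : ℤ)) (x := 4 * ((2 : ℕ) : ℤ) + 1)
        (q := 2 * ((2 : ℕ) : ℤ) + 1) (k := (k : ℤ)) (t := ((2 : ℕ) : ℤ)) (u₁ := (u₁ : ℤ)) (u₂ := (u₂ : ℤ))
        rfl rfl rfl (by exact_mod_cast hs) hsum hprod
      rw [show (u₁ : ℤ) = u₂ by rw [he], sub_self, zero_pow two_ne_zero, mul_zero] at hd
      rcases mul_eq_zero.1 hd with h | h
      · rw [show (u₁ : ℤ) = u₂ by rw [he], h, zero_mul] at hprod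
        have hk0 : (0 : ℤ) < k := by exact_mod_cast hk.pos
        have : (0 : ℤ) < 1 * (4 * ((2 : ℕ) : ℤ) + 1) * (2 * ((2 : ℕ) : ℤ) + 1) ^ 2 * (k : ℤ) ^ 2 := by positivity
        linarith
      · have h' := sub_eq_zero.1 (pow_eq_zero_iff two_ne_zero |>.1 h)
        have h8 := (hdeg (by omega)).2
        push_cast at hsum
        omega

theorem classify (hG : ¬ IsCyclic G) {w : G} (hw : orderOf w = 4)
    (hC : Nat.card (Subgroup.centralizer ({w} : Set G)) = 4) :
    Nonempty (G ≃* ↥(alternatingGroup (Fin 6))) ∨ Nonempty (G ≃* ↥(alternatingGroup (Fin 7))) ∨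
      (∃ (F : Type) (_ : Field F) (_ : Fintype F), Fintype.card F = 7 ∧
        Nonempty (G ≃* Matrix.ProjectiveSpecialLinearGroup (Fin 2) F)) := by
  obtain ⟨P, τ, hpair⟩ := sylow_shape hG hw hC
  obtain ⟨K, hK⟩ := hpair.toDih.exists_core
  have S : Setup P w τ K := ⟨hpair, hK, hC⟩
  have hcard : Nat.card G = 360 ∨ Nat.card G = 168 ∨ Nat.card G = 2520 := by
    have hfix : Nat.card (fixK K (w * (w * τ))) = Nat.card (fixK K τ) := by rw [S.fix_zt]
    obtain ⟨r₁, hr₁⟩ := (S.odd_card (t := τ))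
    obtain ⟨r₂, hr₂⟩ := (S.odd_card (t := w * τ))
    by_cases h1 : Nat.card (fixK K (w * τ)) = 1
    · exact S.classify_aux hG (Or.inl h1)
    by_cases h2 : Nat.card (fixK K τ) = 1
    · exact S.swap.classify_aux hG (Or.inl (hfix.trans h2))
    by_cases h3 : Nat.card (fixK K τ) ≤ Nat.card (fixK K (w * τ))
    · exact S.classify_aux hG (Or.inr ⟨by omega, h3⟩)
    · exact S.swap.classify_aux hG (Or.inr ⟨by omega, by omega⟩)
  rcases hcard with h | h | h
  · exact Or.inl (CfsgLib.Order360.iso_A6 h)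
  · haveI : Fact (Nat.Prime 7) := ⟨by norm_num⟩
    exact Or.inr (Or.inr ⟨ZMod 7, inferInstance, inferInstance, ZMod.card 7,
      Cfsg.Agent.S0495.result h (ZMod.card 7)⟩)
  · exact Or.inr (Or.inl (Cfsg.Agent.S0984.result h))

end CfsgLib.SmallCent
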