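import Cfsg.Agent.Lib.Blocks.Dihedral.Count

/-!
# The centraliser of the central involution when an element of order four has centraliser of order four
-/

set_option autoImplicit false
set_option linter.unusedSectionVars false
set_option linter.style.haveILetI false

namespace CfsgLib.SmallCent

open Cfsg CfsgLib.Blocks.Dihedral

universe u

variable {G : Type u} [Group G] [Finite G]

/-- The hypotheses. -/
structure Setup (P : Sylow 2 G) (w τ : G) (K : Subgroup G) : Prop where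
  pair : DihPair P w τ 2
  core : Core P (w ^ 2) K
  cent : Nat.card (Subgroup.centralizer ({w} : Set G)) = 4

/-- The part of the core centralised by `t`. -/
def fixK (K : Subgroup G) (t : G) : Subgroup G := K ⊓ Subgroup.centralizer ({t} : Set G)

/-- The four-subgroup. -/
def four (P : Sylow 2 G) (τ : G) : Subgroup G := (P : Subgroup G) ⊓ Subgroup.centralizer ({τ} : Set G)

theorem mem_fixK {K : Subgroup G} {t k : G} : k ∈ fixK K t ↔ k ∈ K ∧ Commute k t := by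
  rw [fixK, Subgroup.mem_inf, Subgroup.mem_centralizer_singleton_iff]
  rfl

theorem mem_four {P : Sylow 2 G} {t p : G} : p ∈ four P t ↔ p ∈ (P : Subgroup G) ∧ Commute p t := by
  rw [four, Subgroup.mem_inf, Subgroup.mem_centralizer_singleton_iff]
  rfl

variable {P : Sylow 2 G} {w τ : G} {K : Subgroup G}

theorem eq_one_of_sq {K : Subgroup G} (hodd : ¬ 2 ∣ Nat.card K) {k : G} (hk : k ∈ K) (h : k * k = 1) :
    k = 1 :=
  orderOf_eq_one_iff.1 (Nat.eq_one_of_dvd_coprimes (Nat.prime_two.coprime_iff_not_dvd.2 hodd)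
    (orderOf_dvd_of_pow_eq_one (by rw [sq, h])) (Subgroup.orderOf_dvd_natCard K hk))

theorem exists_root {K : Subgroup G} (hodd : ¬ 2 ∣ Nat.card K) {k : G} (hk : k ∈ K) :
    ∃ j : ℕ, k ^ j * k ^ j = k := by
  obtain ⟨c, hc⟩ := Nat.odd_iff.2 (Nat.two_dvd_ne_zero.1 hodd)
  refine ⟨c + 1, ?_⟩
  rw [← pow_add, show c + 1 + (c + 1) = Nat.card K + 1 by omega, pow_succ,
    orderOf_dvd_iff_pow_eq_one.1 (Subgroup.orderOf_dvd_natCard K hk), one_mul]

theorem card_decomp (hK : Core P (w ^ 2) K) (X A B : Subgroup G) (hAX : A ≤ X) (hBX : B ≤ X)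
    (hAK : A ≤ K) (hBP : B ≤ (P : Subgroup G))
    (hdec : ∀ g ∈ X, ∃ a ∈ A, ∃ b ∈ B, g = a * b) : Nat.card X = Nat.card A * Nat.card B := by
  rw [← Nat.card_prod]
  symm
  refine Nat.card_eq_of_bijective (fun p : A × B => (⟨(p.1 : G) * p.2,
    mul_mem (hAX p.1.2) (hBX p.2.2)⟩ : X)) ⟨fun p q e => ?_, fun g => ?_⟩
  · obtain ⟨e1, e2⟩ := hK.uniq (hAK p.1.2) (hAK q.1.2) (hBP p.2.2) (hBP q.2.2) (congrArg Subtype.val e)
    exact Prod.ext (Subtype.ext e1) (Subtype.ext e2)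
  · obtain ⟨a, ha, b, hb, e⟩ := hdec g g.2
    exact ⟨(⟨a, ha⟩, ⟨b, hb⟩), Subtype.ext e.symm⟩

namespace Setup

variable (S : Setup P w τ K)
include S

theorem hw : orderOf w = 4 := S.pair.ord

theorem cent_eq : Subgroup.centralizer ({w} : Set G) = Subgroup.zpowers w :=
  (Subgroup.eq_of_le_of_card_ge (Subgroup.zpowers_le.2 (Subgroup.mem_centralizer_singleton_iff.2 rfl))
    (by rw [S.cent, Nat.card_zpowers, S.hw])).symm

theorem z_ne : w ^ 2 ≠ 1 ∧ w ^ 2 * w ^ 2 = 1 := S.pair.toDih.z_ne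

theorem z_ord : orderOf (w ^ 2) = 2 := orderOf_eq_prime (by rw [sq]; exact S.z_ne.2) S.z_ne.1

theorem w_inv {k : G} (hk : k ∈ K) : w * k * w⁻¹ = k⁻¹ := by
  have hn : ∀ k ∈ K, w * k * w⁻¹ ∈ K := S.core.norm w (Commute.self_pow w 2)
  have hfix : ∀ k ∈ K, w * k * w⁻¹ = k → k = 1 := by
    intro k hk e
    have hmem : k ∈ Subgroup.zpowers w := S.cent_eq ▸
      Subgroup.mem_centralizer_singleton_iff.2 (mul_inv_eq_iff_eq_mul.1 e).symm
    exact (S.core.uniq hk (one_mem K) (one_mem _) (S.pair.toDih.zle hmem) (by rw [one_mul, mul_one])).1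
  let f : K → K := fun k => ⟨(k : G)⁻¹ * (w * k * w⁻¹), mul_mem (inv_mem k.2) (hn _ k.2)⟩
  have hf : Function.Injective f := fun a b e => by
    have e' : (a : G)⁻¹ * (w * a * w⁻¹) = (b : G)⁻¹ * (w * b * w⁻¹) := congrArg Subtype.val e
    refine Subtype.ext (mul_inv_eq_one.1 (hfix ((b : G) * (a : G)⁻¹) (mul_mem b.2 (inv_mem a.2)) ?_)).symm
    rw [show w * ((b : G) * (a : G)⁻¹) * w⁻¹ = w * b * w⁻¹ * (w * a * w⁻¹)⁻¹ by group,
      show w * (b : G) * w⁻¹ = b * ((b : G)⁻¹ * (w * b * w⁻¹)) by group, ← e']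
    group
  obtain ⟨m, hm⟩ := Finite.surjective_of_injective hf ⟨k, hk⟩
  have e : (m : G)⁻¹ * (w * m * w⁻¹) = k := congrArg Subtype.val hm
  have hzm : Commute (m : G) (w ^ 2) := S.core.comm _ m.2
  rw [← e, show w * ((m : G)⁻¹ * (w * m * w⁻¹)) * w⁻¹ = (w * m * w⁻¹)⁻¹ * (w ^ 2 * m * (w ^ 2)⁻¹) by
    rw [sq]; group, ← hzm.eq, mul_inv_cancel_right]
  group

theorem comm {a b : G} (ha : a ∈ K) (hb : b ∈ K) : Commute a b := by
  have h := S.w_inv (mul_mem ha hb)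
  rw [show w * (a * b) * w⁻¹ = (w * a * w⁻¹) * (w * b * w⁻¹) by group, S.w_inv ha, S.w_inv hb,
    ← mul_inv_rev, inv_inj] at h
  exact h.symm

theorem t_comm : Commute τ (w ^ 2) := S.pair.toDih.z_central S.pair.tmem

theorem t_norm {k : G} (hk : k ∈ K) : τ * k * τ⁻¹ ∈ K := S.core.norm τ S.t_comm k hk

theorem conj_wt {k : G} (hk : k ∈ K) : w * τ * k * (w * τ)⁻¹ = (τ * k * τ⁻¹)⁻¹ := by
  rw [← S.w_inv (S.t_norm hk)]; group

theorem w3_inv : w⁻¹ = w ^ 3 := by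
  rw [inv_eq_iff_mul_eq_one, ← pow_succ', show 3 + 1 = 4 from rfl, ← S.hw, pow_orderOf_eq_one]

theorem tt : τ * τ = 1 := S.pair.tinv.1

theorem swap : Setup P w (w * τ) K where
  pair := { toDih := S.pair.toDih, tmem := mul_mem S.pair.mem S.pair.tmem,
            tnot := fun e => S.pair.tnot (by simpa using mul_mem (inv_mem (Subgroup.mem_zpowers w)) e) }
  core := S.core
  cent := S.cent

theorem fix_zt : fixK K (w * (w * τ)) = fixK K τ := by
  ext k
  rw [mem_fixK, mem_fixK]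
  refine and_congr_right fun hk => ⟨fun h => ?_, fun h => ?_⟩
  · have := (S.core.comm k hk).mul_right h
    rwa [show w ^ 2 * (w * (w * τ)) = τ by
      rw [← mul_assoc w w τ, ← mul_assoc, ← sq, S.z_ne.2, one_mul]] at this
  · have := (S.core.comm k hk).mul_right h
    rwa [sq, mul_assoc] at this

theorem card_K : Nat.card K = Nat.card (fixK K τ) * Nat.card (fixK K (w * τ)) := by
  rw [← Nat.card_prod]
  symm
  refine Nat.card_eq_of_bijective (fun p : fixK K τ × fixK K (w * τ) => (⟨(p.1 : G) * p.2,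
    mul_mem (mem_fixK.1 p.1.2).1 (mem_fixK.1 p.2.2).1⟩ : K)) ⟨fun p q e => ?_, fun g => ?_⟩
  · have e' : (p.1 : G) * p.2 = (q.1 : G) * q.2 := congrArg Subtype.val e
    have hm : (q.1 : G)⁻¹ * p.1 = (q.2 : G) * (p.2 : G)⁻¹ := by
      rw [inv_mul_eq_iff_eq_mul, ← mul_assoc, ← e', mul_inv_cancel_right]
    obtain ⟨h1, h2⟩ := mem_fixK.1 (mul_mem (inv_mem q.1.2) p.1.2)
    have h3 : Commute ((q.1 : G)⁻¹ * p.1) (w * τ) :=
      hm ▸ (mem_fixK.1 (mul_mem q.2.2 (inv_mem p.2.2))).2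
    have h4 := S.conj_wt h1
    rw [← h3.eq, mul_inv_cancel_right, ← h2.eq, mul_inv_cancel_right] at h4
    have h5 := eq_one_of_sq S.core.odd h1 (mul_eq_one_iff_eq_inv.2 h4)
    have hp1 : (p.1 : G) = q.1 := (inv_mul_eq_one.1 h5).symm
    exact Prod.ext (Subtype.ext hp1) (Subtype.ext (by rw [hp1] at e'; exact mul_left_cancel e'))
  · obtain ⟨j, hj⟩ := exists_root S.core.odd g.2
    set r : G := (g : G) ^ j with hr
    obtain ⟨j', hj'⟩ := exists_root S.core.odd (pow_mem g.2 j : r ∈ K)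
    set s : G := r ^ j' with hs
    have hsK : s ∈ K := pow_mem (pow_mem g.2 j) j'
    have hs' : τ * s * τ⁻¹ ∈ K := S.t_norm hsK
    have hinv : ∀ x, τ * (τ * x * τ⁻¹) * τ⁻¹ = x := fun x => by
      rw [show τ * (τ * x * τ⁻¹) * τ⁻¹ = (τ * τ) * x * (τ * τ)⁻¹ by group, S.tt]; group
    have ha : r * (τ * r * τ⁻¹) ∈ fixK K τ := by
      refine mem_fixK.2 ⟨mul_mem (pow_mem g.2 j) (S.t_norm (pow_mem g.2 j)), Commute.symm ?_⟩
      refine mul_inv_eq_iff_eq_mul.1 ?_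
      rw [show τ * (r * (τ * r * τ⁻¹)) * τ⁻¹ = τ * r * τ⁻¹ * (τ * (τ * r * τ⁻¹) * τ⁻¹) by group, hinv]
      exact S.comm (S.t_norm (pow_mem g.2 j)) (pow_mem g.2 j)
    have hb : r * (τ * r * τ⁻¹)⁻¹ ∈ fixK K (w * τ) := by
      refine mem_fixK.2 ⟨mul_mem (pow_mem g.2 j) (inv_mem (S.t_norm (pow_mem g.2 j))), Commute.symm ?_⟩
      refine mul_inv_eq_iff_eq_mul.1 ?_
      rw [S.conj_wt (mul_mem (pow_mem g.2 j) (inv_mem (S.t_norm (pow_mem g.2 j)))),
        show τ * (r * (τ * r * τ⁻¹)⁻¹) * τ⁻¹ = τ * r * τ⁻¹ * (τ * (τ * r * τ⁻¹) * τ⁻¹)⁻¹ by group, hinv,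
        mul_inv_rev, inv_inv]
    have ec := (S.comm (S.t_norm (pow_mem g.2 j)) (pow_mem g.2 j)).eq
    have hprod : r * (τ * r * τ⁻¹) * (r * (τ * r * τ⁻¹)⁻¹) = g := by
      rw [mul_assoc r, ← mul_assoc (τ * r * τ⁻¹), ec, mul_assoc r (τ * r * τ⁻¹), mul_inv_cancel, mul_one, hj]
    exact ⟨(⟨_, ha⟩, ⟨_, hb⟩), Subtype.ext hprod⟩

theorem four_mem {g : G} : g ∈ four P τ ↔ g = 1 ∨ g = w ^ 2 ∨ g = τ ∨ g = w ^ 2 * τ := by
  have hbad : ∀ m : ℕ, Commute (w ^ m) τ → m % 2 = 0 := by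
    intro m h
    have e := S.pair.refl_pow m
    rw [← h.eq] at e
    have : w ^ m * w ^ m = 1 := mul_eq_one_iff_eq_inv.2 (mul_right_cancel e)
    rw [← pow_add] at this
    have h4 := orderOf_dvd_of_pow_eq_one this
    rw [S.hw] at h4
    omega
  constructor
  · intro hg
    obtain ⟨hP, hc⟩ := mem_four.1 hg
    rcases S.pair.shape hP with ⟨m, hm, rfl⟩ | ⟨m, hm, rfl⟩
    · have := hbad m hc
      interval_cases m <;> first | omega | simp
    · have h1 := hc.mul_left (Commute.refl τ)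
      rw [mul_assoc, S.tt, mul_one] at h1
      have := hbad m h1
      interval_cases m <;> first | omega | simp
  · have hz : w ^ 2 ∈ four P τ := mem_four.2 ⟨pow_mem S.pair.mem 2, S.t_comm.symm⟩
    have ht : τ ∈ four P τ := mem_four.2 ⟨S.pair.tmem, Commute.refl τ⟩
    rintro (rfl | rfl | rfl | rfl)
    exacts [one_mem _, hz, ht, mul_mem hz ht]

theorem four_ne : τ ≠ 1 ∧ τ ≠ w ^ 2 ∧ w ^ 2 * τ ≠ 1 ∧ w ^ 2 * τ ≠ w ^ 2 ∧ w ^ 2 * τ ≠ τ := by
  have h1 : τ ≠ 1 := fun e => S.pair.tnot (e ▸ one_mem _)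
  have h2 : τ ≠ w ^ 2 := fun e => S.pair.tnot (e ▸ Subgroup.npow_mem_zpowers w 2)
  refine ⟨h1, h2, fun e => h2 ?_, fun e => h1 (mul_left_cancel (e.trans (mul_one _).symm)),
    fun e => S.z_ne.1 (mul_right_cancel (e.trans (one_mul τ).symm))⟩
  rw [eq_inv_of_mul_eq_one_right e]
  exact inv_eq_of_mul_eq_one_right S.z_ne.2

theorem card_four : Nat.card (four P τ) = 4 := by
  classical
  obtain ⟨a, b, c, d, e⟩ := S.four_ne
  rw [show Nat.card (four P τ) = (({1, w ^ 2, τ, w ^ 2 * τ} : Finset G) : Set G).ncard by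
    rw [← Nat.card_coe_set_eq]
    refine Nat.card_congr (Equiv.setCongr ?_)
    ext g
    simpa using S.four_mem, Set.ncard_coe_finset]
  rw [Finset.card_insert_of_notMem (by simp [S.z_ne.1.symm, a.symm, c.symm]),
    Finset.card_insert_of_notMem (by simp [b.symm, d.symm]), Finset.card_pair e.symm]

theorem card_cent_z :
    Nat.card (Subgroup.centralizer ({w ^ 2} : Set G)) =
      8 * (Nat.card (fixK K τ) * Nat.card (fixK K (w * τ))) := by
  rw [S.core.card, S.pair.toDih.card, S.card_K]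

theorem mem_cent_pair {g : G} :
    g ∈ Subgroup.centralizer ({w ^ 2, τ} : Set G) ↔ Commute g (w ^ 2) ∧ Commute g τ := by
  rw [Subgroup.mem_centralizer_iff]
  simp only [Set.mem_insert_iff, Set.mem_singleton_iff, forall_eq_or_imp, forall_eq]
  exact ⟨fun h => ⟨h.1.symm, h.2.symm⟩, fun h => ⟨h.1.symm, h.2.symm⟩⟩

theorem dec_pair {g : G} (h1 : Commute g (w ^ 2)) (h2 : Commute g τ) :
    ∃ a ∈ fixK K τ, ∃ b ∈ four P τ, g = a * b := by
  obtain ⟨k, hk, p, hp, rfl⟩ := S.core.dec g h1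
  have e : τ * k * τ⁻¹ * (τ * p * τ⁻¹) = k * p := by
    rw [show τ * k * τ⁻¹ * (τ * p * τ⁻¹) = τ * (k * p) * τ⁻¹ by group, ← h2.eq, mul_inv_cancel_right]
  obtain ⟨e1, e2⟩ := S.core.uniq (S.t_norm hk) hk
    (mul_mem (mul_mem S.pair.tmem hp) (inv_mem S.pair.tmem)) hp e
  exact ⟨k, mem_fixK.2 ⟨hk, (mul_inv_eq_iff_eq_mul.1 e1).symm⟩,
    p, mem_four.2 ⟨hp, (mul_inv_eq_iff_eq_mul.1 e2).symm⟩, rfl⟩

theorem card_cent_pair :
    Nat.card (Subgroup.centralizer ({w ^ 2, τ} : Set G)) = 4 * Nat.card (fixK K τ) := by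
  rw [card_decomp S.core (Subgroup.centralizer ({w ^ 2, τ} : Set G)) (fixK K τ) (four P τ)
    (fun k hk => S.mem_cent_pair.2 ⟨S.core.comm k (mem_fixK.1 hk).1, (mem_fixK.1 hk).2⟩)
    (fun p hp => S.mem_cent_pair.2 ⟨S.pair.toDih.z_central (mem_four.1 hp).1, (mem_four.1 hp).2⟩)
    (fun k hk => (mem_fixK.1 hk).1) (fun p hp => (mem_four.1 hp).1)
    (fun g hg => S.dec_pair (S.mem_cent_pair.1 hg).1 (S.mem_cent_pair.1 hg).2), S.card_four, mul_comm]

theorem gen : Subgroup.closure ({w, τ} : Set G) = (P : Subgroup G) := by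
  refine le_antisymm (Subgroup.closure_le _ |>.2 ?_) fun g hg => ?_
  · rintro x (rfl | rfl)
    exacts [S.pair.mem, S.pair.tmem]
  · have hwc : w ∈ Subgroup.closure ({w, τ} : Set G) := Subgroup.subset_closure (by simp)
    have htc : τ ∈ Subgroup.closure ({w, τ} : Set G) := Subgroup.subset_closure (by simp)
    rcases S.pair.shape hg with ⟨m, -, rfl⟩ | ⟨m, -, rfl⟩
    exacts [pow_mem hwc m, mul_mem (pow_mem hwc m) htc]

theorem odd_card {t : G} : Odd (Nat.card (fixK K t)) := by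
  refine Nat.not_even_iff_odd.1 fun h => S.core.odd ((even_iff_two_dvd.1 h).trans ?_)
  exact Subgroup.card_dvd_of_le inf_le_left

end Setup

end CfsgLib.SmallCent
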